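import Groth.Prelude.Def_CDiv
import Groth.Agent.Lib.Depth.Assoc
import Groth.Agent.Lib.AssPt.Modules
import Mathlib.AlgebraicGeometry.Noetherian
import Mathlib.RingTheory.DiscreteValuationRing.TFAE

/-!
# Regular loci of rational functions and effectivity of divisors
-/

set_option autoImplicit false
universe u
open CategoryTheory AlgebraicGeometry TopologicalSpace IsLocalRing

namespace Groth.Agent.Lib.CDivInt

open CDiv Groth.Agent.Lib.AssPt.Basic Groth.Agent.Lib.AssPt.Modules

variable {X : Scheme.{u}} [IsIntegral X]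

/-- A rational function regular at a point. -/
def Reg (f : X.functionField) (x : X) : Prop :=
  f ∈ (algebraMap (X.presheaf.stalk x) X.functionField).range

theorem algebraMap_stalk_injective (x : X) :
    Function.Injective (algebraMap (X.presheaf.stalk x) X.functionField) :=
  IsFractionRing.injective (X.presheaf.stalk x) X.functionField

theorem germOf_eq_one_iff (f : KUnits X) (x : X) :
    germOf X x f = 1 ↔ Reg (f : X.functionField) x ∧ Reg ((f⁻¹ : KUnits X) : X.functionField) x := by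
  rw [QuotientGroup.eq_one_iff]
  constructor
  · rintro ⟨v, rfl⟩
    exact ⟨⟨v, rfl⟩, ⟨(v⁻¹ : (X.presheaf.stalk x)ˣ), rfl⟩⟩
  · rintro ⟨⟨a, ha⟩, ⟨b, hb⟩⟩
    have hab : a * b = 1 := algebraMap_stalk_injective x (by rw [map_mul, ha, hb, Units.mul_inv, map_one])
    exact ⟨⟨a, b, hab, (mul_comm b a).trans hab⟩, Units.ext ha⟩

theorem reg_mul {f g : X.functionField} {x : X} (hf : Reg f x) (hg : Reg g x) : Reg (f * g) x :=
  Subring.mul_mem _ hf hg

theorem isEffectiveAt_iff {D : Divisor X} {x : X} {f : KUnits X} (h : D.1 x = germOf X x f) :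
    IsEffectiveAt D x ↔ Reg (f : X.functionField) x := by
  constructor
  · rintro ⟨a, ha, e⟩
    rw [h, QuotientGroup.eq] at e
    obtain ⟨v, hv⟩ := e
    refine ⟨a * (v⁻¹ : (X.presheaf.stalk x)ˣ), ?_⟩
    have hv' : algebraMap (X.presheaf.stalk x) X.functionField v =
        ((f⁻¹ : KUnits X) : X.functionField) * algebraMap (X.presheaf.stalk x) X.functionField a :=
      congrArg Units.val hv
    have h1 : algebraMap (X.presheaf.stalk x) X.functionField v *
        algebraMap (X.presheaf.stalk x) X.functionField (v⁻¹ : (X.presheaf.stalk x)ˣ) = 1 := by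
      rw [← map_mul, Units.mul_inv, map_one]
    rw [hv', mul_assoc, Units.inv_mul_eq_one] at h1
    rw [map_mul]
    exact h1.symm
  · rintro ⟨a, ha⟩
    have h0 : algebraMap (X.presheaf.stalk x) X.functionField a ≠ 0 := by rw [ha]; exact f.ne_zero
    exact ⟨a, h0, by rw [h]; exact congrArg _ (Units.ext ha.symm)⟩

theorem eq_one_iff {D : Divisor X} {x : X} {f : KUnits X} (h : D.1 x = germOf X x f) :
    D.1 x = 1 ↔ Reg (f : X.functionField) x ∧ Reg ((f⁻¹ : KUnits X) : X.functionField) x := by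
  rw [h, germOf_eq_one_iff]

theorem inv_apply {D : Divisor X} {x : X} {f : KUnits X} (h : D.1 x = germOf X x f) :
    (D⁻¹).1 x = germOf X x f⁻¹ := by
  show (D.1 x)⁻¹ = _
  rw [h]; rfl

theorem eq_one_iff_effective (D : Divisor X) (x : X) :
    D.1 x = 1 ↔ IsEffectiveAt D x ∧ IsEffectiveAt D⁻¹ x := by
  obtain ⟨U, f, hx, hU⟩ := D.2 x
  rw [eq_one_iff (hU x hx), isEffectiveAt_iff (hU x hx), isEffectiveAt_iff (inv_apply (hU x hx))]

theorem exists_affine_rep (D : Divisor X) (x : X) :
    ∃ (U : X.Opens) (f : KUnits X), IsAffineOpen U ∧ x ∈ U ∧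
      ∀ y : X, y ∈ U → D.1 y = germOf X y f := by
  obtain ⟨V, f, hx, hV⟩ := D.2 x
  obtain ⟨U, hU, hxU, hle⟩ := exists_isAffineOpen_mem_and_subset hx
  exact ⟨U, f, hU, hxU, fun y hy => hV y (hle hy)⟩

section Affine

variable {U : X.Opens} (hU : IsAffineOpen U)

/-- The ideal of denominators of a rational function. -/
noncomputable def den [Nonempty U] (f : X.functionField) : Ideal Γ(X, U) :=
  (LinearMap.range (Algebra.linearMap Γ(X, U) X.functionField)).colon {f}

theorem mem_den [Nonempty U] {f : X.functionField} {r : Γ(X, U)} :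
    r ∈ den f ↔ ∃ a : Γ(X, U), algebraMap Γ(X, U) X.functionField a = r • f :=
  Submodule.mem_colon_singleton

include hU in
theorem reg_iff_den [Nonempty U] (f : X.functionField) {y : X} (hy : y ∈ U) :
    Reg f y ↔ ¬ den f ≤ (hU.primeIdealOf ⟨y, hy⟩).asIdeal := by
  letI := X.presheaf.algebra_section_stalk ⟨y, hy⟩
  haveI := hU.isLocalization_stalk ⟨y, hy⟩
  haveI : IsScalarTower Γ(X, U) (X.presheaf.stalk y) X.functionField :=
    functionField_isScalarTower X U ⟨y, hy⟩
  constructor
  · rintro ⟨a, rfl⟩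
    obtain ⟨⟨c, s⟩, hs⟩ := IsLocalization.surj (hU.primeIdealOf ⟨y, hy⟩).asIdeal.primeCompl a
    refine SetLike.not_le_iff_exists.mpr ⟨(s : Γ(X, U)), mem_den.mpr ⟨c, ?_⟩, s.2⟩
    rw [Algebra.smul_def, IsScalarTower.algebraMap_apply Γ(X, U) (X.presheaf.stalk y) X.functionField c,
      IsScalarTower.algebraMap_apply Γ(X, U) (X.presheaf.stalk y) X.functionField (s : Γ(X, U)),
      ← map_mul, ← hs, mul_comm]
  · intro h
    obtain ⟨s, hs, hsp⟩ := SetLike.not_le_iff_exists.mp h
    obtain ⟨c, hc⟩ := mem_den.mp hs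
    have hu := IsLocalization.map_units (X.presheaf.stalk y)
      (⟨s, hsp⟩ : (hU.primeIdealOf ⟨y, hy⟩).asIdeal.primeCompl)
    refine ⟨IsLocalization.mk' _ c (⟨s, hsp⟩ : (hU.primeIdealOf ⟨y, hy⟩).asIdeal.primeCompl),
      (hu.map (algebraMap (X.presheaf.stalk y) X.functionField)).mul_right_injective ?_⟩
    simp only
    rw [← map_mul, mul_comm, IsLocalization.mk'_spec, ← IsScalarTower.algebraMap_apply,
      ← IsScalarTower.algebraMap_apply, hc, Algebra.smul_def]

end Affine

theorem isOpen_reg (f : X.functionField) : IsOpen {x : X | Reg f x} := by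
  rw [isOpen_iff_forall_mem_open]
  intro x hx
  obtain ⟨U, hU, hxU, -⟩ := exists_isAffineOpen_mem_and_subset (x := x) (U := (⊤ : X.Opens)) trivial
  haveI : Nonempty U := ⟨⟨x, hxU⟩⟩
  obtain ⟨s, hs, hsx⟩ := SetLike.not_le_iff_exists.mp ((reg_iff_den hU f hxU).mp hx)
  refine ⟨X.basicOpen s, fun y hy => ?_, (X.basicOpen s).2, ?_⟩
  · have hyU := X.basicOpen_le s hy
    refine (reg_iff_den hU f hyU).mpr fun hle => ?_
    have h : hU.primeIdealOf ⟨y, hyU⟩ ∈ hU.fromSpec ⁻¹ᵁ X.basicOpen s := by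
      show hU.fromSpec _ ∈ X.basicOpen s
      rwa [hU.fromSpec_primeIdealOf]
    rw [hU.fromSpec_preimage_basicOpen] at h
    exact h (hle hs)
  · have h : hU.primeIdealOf ⟨x, hxU⟩ ∈ hU.fromSpec ⁻¹ᵁ X.basicOpen s := by
      rw [hU.fromSpec_preimage_basicOpen]; exact hsx
    have h' : hU.fromSpec (hU.primeIdealOf ⟨x, hxU⟩) ∈ X.basicOpen s := h
    rwa [hU.fromSpec_primeIdealOf] at h'

theorem reg_of_specializes {f : X.functionField} {x y : X} (h : y ⤳ x) (hx : Reg f x) : Reg f y :=
  h.mem_open (isOpen_reg f) hx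

theorem isClosed_supp (D : Divisor X) : IsClosed (supp D) := by
  rw [← isOpen_compl_iff, isOpen_iff_forall_mem_open]
  intro x hx
  obtain ⟨U, f, hxU, hU⟩ := D.2 x
  refine ⟨(U : Set X) ∩ ({y | Reg (f : X.functionField) y} ∩
    {y | Reg ((f⁻¹ : KUnits X) : X.functionField) y}),
    fun y hy => not_not.mpr ((eq_one_iff (hU y hy.1)).mpr hy.2),
    U.2.inter ((isOpen_reg _).inter (isOpen_reg _)), hxU, ?_⟩
  exact (eq_one_iff (hU x hxU)).mp (not_not.mp hx)

theorem reg_genericPoint (f : X.functionField) : Reg f (genericPoint X) := by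
  refine ⟨f, ?_⟩
  show X.presheaf.stalkSpecializes _ f = f
  rw [TopCat.Presheaf.stalkSpecializes_refl]
  rfl

theorem genericPoint_not_mem_supp (D : Divisor X) : genericPoint X ∉ supp D := by
  obtain ⟨U, f, hxU, hU⟩ := D.2 (genericPoint X)
  exact not_not.mpr ((eq_one_iff (hU _ hxU)).mpr ⟨reg_genericPoint _, reg_genericPoint _⟩)

variable [IsLocallyNoetherian X]

/-- A rational function which is not regular at `x` fails to be regular at a generization of depth
one. -/
theorem exists_depth_one_not_reg (f : X.functionField) {x : X} (hx : ¬ Reg f x) :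
    ∃ y, y ⤳ x ∧ LocCoh.depth (X.presheaf.stalk y) (X.presheaf.stalk y) = 1 ∧ ¬ Reg f y := by
  obtain ⟨U, hU, hxU, -⟩ := exists_isAffineOpen_mem_and_subset (x := x) (U := (⊤ : X.Opens)) trivial
  haveI : Nonempty U := ⟨⟨x, hxU⟩⟩
  haveI : IsNoetherianRing Γ(X, U) := IsLocallyNoetherian.component_noetherian ⟨U, hU⟩
  have hJle : den f ≤ (hU.primeIdealOf ⟨x, hxU⟩).asIdeal :=
    not_not.mp fun h => hx ((reg_iff_den hU f hxU).mpr h)
  obtain ⟨q, hq, hqle⟩ := Ideal.exists_minimalPrimes_le hJle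
  haveI : q.IsPrime := hq.1.1
  obtain ⟨y, hy, rfl⟩ := exists_point_of_prime hU q
  have hny : ¬ Reg f y := fun h => (reg_iff_den hU f hy).mp h hq.1.2
  refine ⟨y, (specializes_iff_primeIdealOf hU hxU hy).mpr hqle, ?_, hny⟩
  letI := X.presheaf.algebra_section_stalk ⟨y, hy⟩
  haveI := hU.isLocalization_stalk ⟨y, hy⟩
  haveI : IsScalarTower Γ(X, U) (X.presheaf.stalk y) X.functionField :=
    functionField_isScalarTower X U ⟨y, hy⟩
  obtain ⟨a, b, hb, hab⟩ := IsFractionRing.div_surjective (A := X.presheaf.stalk y) f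
  have hb0 : algebraMap (X.presheaf.stalk y) X.functionField b ≠ 0 := fun h =>
    nonZeroDivisors.ne_zero hb (algebraMap_stalk_injective y (h.trans (map_zero _).symm))
  have hbm : b ∈ maximalIdeal (X.presheaf.stalk y) := fun hu => hny ⟨a * ↑hu.unit⁻¹, by
    rw [← hab, eq_div_iff hb0, ← map_mul, mul_assoc]
    congr 1
    rw [IsUnit.val_inv_mul, mul_one]⟩
  -- the ideal of denominators in the local ring
  have hcol : ∀ r, r ∈ (Ideal.span {b}).colon {a} ↔ Reg (algebraMap _ X.functionField r * f) y := by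
    intro r
    rw [Submodule.mem_colon_singleton, smul_eq_mul, Ideal.mem_span_singleton]
    constructor
    · rintro ⟨c, hc⟩
      refine ⟨c, ?_⟩
      rw [← hab, mul_div_assoc', eq_div_iff hb0, ← map_mul, ← map_mul, hc, mul_comm]
    · rintro ⟨c, hc⟩
      refine ⟨c, algebraMap_stalk_injective y ?_⟩
      rw [← hab, mul_div_assoc', eq_div_iff hb0] at hc
      rw [map_mul, map_mul, ← hc, mul_comm]
  refine depth_eq_one_of_radical_colon
    (fun u v huv => (mul_cancel_left_mem_nonZeroDivisors hb).mp huv) hbm (a := a) ?_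
  refine le_antisymm ?_ ?_
  · rw [(maximalIdeal.isMaximal (X.presheaf.stalk y)).isPrime.radical_le_iff]
    intro r hr hu
    obtain ⟨c, hc⟩ := (hcol r).mp hr
    exact hny ⟨↑hu.unit⁻¹ * c, by
      rw [map_mul, hc, ← mul_assoc, ← map_mul, IsUnit.val_inv_mul, map_one, one_mul]⟩
  · rw [← (radical_map_eq_maximalIdeal_iff (S := X.presheaf.stalk y) _ (den (U := U) f)).mpr hq]
    refine Ideal.radical_mono (Ideal.map_le_iff_le_comap.mpr fun r hr => ?_)
    obtain ⟨c, hc⟩ := mem_den.mp hr
    refine (hcol _).mpr ⟨algebraMap Γ(X, U) (X.presheaf.stalk y) c, ?_⟩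
    rw [← IsScalarTower.algebraMap_apply, ← IsScalarTower.algebraMap_apply, hc, Algebra.smul_def]
where
  depth_eq_one_of_radical_colon {R : Type u} [CommRing R] [IsNoetherianRing R]
      [IsLocalRing R] {b a : R} (hb : IsSMulRegular R b) (hbm : b ∈ IsLocalRing.maximalIdeal R)
      (h : ((Ideal.span {b}).colon {a}).radical = IsLocalRing.maximalIdeal R) :
      LocCoh.depth R R = 1 := by
    have hass : IsLocalRing.maximalIdeal R ∈ associatedPrimes R (QuotSMulTop b R) := by
      refine ⟨inferInstance, Submodule.Quotient.mk a, ?_⟩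
      rw [← h]
      congr 1
      ext r
      rw [Submodule.mem_colon_singleton, Submodule.mem_colon_singleton, Submodule.mem_bot,
        ← Submodule.Quotient.mk_smul, Submodule.Quotient.mk_eq_zero, Ideal.mem_span_singleton,
        Submodule.mem_smul_pointwise_iff_exists]
      exact ⟨fun ⟨c, hc⟩ => ⟨c, trivial, hc.symm⟩, fun ⟨c, _, hc⟩ => ⟨c, hc.symm⟩⟩
    haveI : Nontrivial (QuotSMulTop b R) := by
      by_contra hn
      haveI := not_nontrivial_iff_subsingleton.mp hn
      exact not_isAssociatedPrime_of_subsingleton hass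
    have h0 := (Groth.Agent.Lib.Depth.Assoc.depth_eq_zero_iff (R := R) (M := QuotSMulTop b R)).mpr hass
    have := Groth.Agent.Lib.Depth.SES.idealDepth_quotSMulTop (IsLocalRing.maximalIdeal R) hbm hb
    rw [LocCoh.depth] at h0 ⊢
    rw [← this, h0, zero_add]

/-- Effectivity is detected at generizations of depth one. -/
theorem exists_depth_one_not_effectiveAt (D : Divisor X) {x : X} (hx : ¬ IsEffectiveAt D x) :
    ∃ y, y ⤳ x ∧ LocCoh.depth (X.presheaf.stalk y) (X.presheaf.stalk y) = 1 ∧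
      ¬ IsEffectiveAt D y := by
  obtain ⟨U, f, hxU, hU⟩ := D.2 x
  obtain ⟨y, hyx, hd, hy⟩ := exists_depth_one_not_reg (f : X.functionField)
    (fun h => hx ((isEffectiveAt_iff (hU x hxU)).mpr h))
  exact ⟨y, hyx, hd, fun h => hy ((isEffectiveAt_iff (hU y (hyx.mem_open U.2 hxU))).mp h)⟩

theorem isEffective_of_depth_one (D : Divisor X)
    (h : ∀ x : X, LocCoh.depth (X.presheaf.stalk x) (X.presheaf.stalk x) = 1 → IsEffectiveAt D x) :
    IsEffective D := fun x => by
  by_contra hx
  obtain ⟨y, -, hd, hy⟩ := exists_depth_one_not_effectiveAt D hx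
  exact hy (h y hd)

theorem eq_one_of_depth_one (D : Divisor X)
    (h : ∀ x : X, LocCoh.depth (X.presheaf.stalk x) (X.presheaf.stalk x) = 1 → D.1 x = 1) : D = 1 :=
  Subtype.ext (funext fun x => (eq_one_iff_effective D x).mpr
    ⟨isEffective_of_depth_one D (fun y hy => ((eq_one_iff_effective D y).mp (h y hy)).1) x,
      isEffective_of_depth_one D⁻¹ (fun y hy => ((eq_one_iff_effective D y).mp (h y hy)).2) x⟩)

theorem depth_eq_one_of_maximal (D : Divisor X) (x : X) (hx : x ∈ supp D)
    (hmax : ∀ z : X, z ∈ supp D → z ⤳ x → z = x) :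
    LocCoh.depth (X.presheaf.stalk x) (X.presheaf.stalk x) = 1 := by
  have : ¬ IsEffectiveAt D x ∨ ¬ IsEffectiveAt D⁻¹ x := by
    by_contra h
    push Not at h
    exact hx ((eq_one_iff_effective D x).mpr h)
  rcases this with h | h
  all_goals
    obtain ⟨y, hyx, hd, hy⟩ := exists_depth_one_not_effectiveAt _ h
    have hys : y ∈ supp D := fun e => by
      have := (eq_one_iff_effective D y).mp e
      first | exact hy this.1 | exact hy this.2
    obtain rfl := hmax y hys hyx
    exact hd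

end Groth.Agent.Lib.CDivInt
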