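import Groth.Agent.Lib.CDivInt.Basic
import Mathlib.Topology.KrullDimension

/-!
# Divisors on one-dimensional Noetherian integral schemes
-/

set_option autoImplicit false
universe u
open CategoryTheory AlgebraicGeometry TopologicalSpace

namespace Groth.Agent.Lib.CDivInt

open CDiv

variable {X : Scheme.{u}} [IsIntegral X] [IsLocallyNoetherian X]

theorem isClosed_singleton_of_ne_genericPoint (hdim : topologicalKrullDim X ≤ 1) {x : X}
    (hx : x ≠ genericPoint X) : IsClosed ({x} : Set X) := by
  rw [← closure_eq_iff_isClosed]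
  refine Set.Subset.antisymm (fun z hz => ?_) subset_closure
  by_contra hne
  have hxz : x ⤳ z := specializes_iff_mem_closure.mpr hz
  let a : IrreducibleCloseds X := ⟨closure {z}, isIrreducible_singleton.closure, isClosed_closure⟩
  let b : IrreducibleCloseds X := ⟨closure {x}, isIrreducible_singleton.closure, isClosed_closure⟩
  let c : IrreducibleCloseds X :=
    ⟨closure {genericPoint X}, isIrreducible_singleton.closure, isClosed_closure⟩
  have hab : a < b := by
    refine lt_of_le_of_ne (show closure {z} ⊆ closure {x} from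
      specializes_iff_closure_subset.mp hxz) fun e => hne ?_
    have e' : closure ({z} : Set X) = closure {x} := congrArg SetLike.coe e
    exact ((inseparable_iff_closure_eq.mpr e').eq : z = x)
  have hbc : b < c := by
    refine lt_of_le_of_ne (show closure {x} ⊆ closure {genericPoint X} from
      specializes_iff_closure_subset.mp ((genericPoint_spec X).specializes trivial)) fun e => hx ?_
    have e' : closure ({x} : Set X) = closure {genericPoint X} := congrArg SetLike.coe e
    exact (inseparable_iff_closure_eq.mpr e').eq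
  let s : LTSeries (IrreducibleCloseds X) :=
    (((RelSeries.singleton _ a).snoc b hab).snoc c (by simpa using hbc))
  have hlen : s.length = 2 := rfl
  have h2 : ((2 : ℕ) : WithBot ℕ∞) ≤ 1 := by
    rw [← hlen]
    exact le_trans (Order.LTSeries.length_le_krullDim s) hdim
  norm_cast at h2

theorem discreteTopology_of_isClosed (hdim : topologicalKrullDim X ≤ 1) {E : Set X}
    (hE : IsClosed E) (hη : genericPoint X ∉ E) : DiscreteTopology ↥E := by
  rw [discreteTopology_iff_isOpen_singleton]
  rintro ⟨x, hx⟩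
  obtain ⟨U, hU, hxU, -⟩ := exists_isAffineOpen_mem_and_subset (x := x) (U := (⊤ : X.Opens)) trivial
  haveI : IsNoetherianRing Γ(X, U) := IsLocallyNoetherian.component_noetherian ⟨U, hU⟩
  have hfin : (E ∩ U).Finite := by
    haveI : NoetherianSpace (Spec Γ(X, U)) :=
      inferInstanceAs (NoetherianSpace (PrimeSpectrum Γ(X, U)))
    obtain ⟨S, hS, hScl, hSirr, hSU⟩ := NoetherianSpace.exists_finite_set_isClosed_irreducible
      ((hE.preimage hU.fromSpec.continuous : IsClosed (hU.fromSpec ⁻¹' E)))
    have hsub : ∀ Z ∈ S, (hU.fromSpec '' Z).Subsingleton := by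
      intro Z hZ
      obtain ⟨g, hg⟩ := QuasiSober.sober (hSirr Z hZ) (hScl Z hZ)
      rintro _ ⟨p, hp, rfl⟩ _ ⟨q, hq, rfl⟩
      have hgE : hU.fromSpec g ∈ E := by
        have : g ∈ hU.fromSpec ⁻¹' E := hSU ▸ Set.mem_sUnion.mpr ⟨Z, hZ, hg.mem⟩
        exact this
      have hcl := isClosed_singleton_of_ne_genericPoint hdim (fun e => hη (e ▸ hgE))
      have key : ∀ r ∈ Z, hU.fromSpec r = hU.fromSpec g := fun r hr =>
        hcl.closure_eq.subset (((hg.specializes hr).map hU.fromSpec.continuous).mem_closure)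
      rw [key p hp, key q hq]
    refine Set.Finite.subset (hS.biUnion fun Z hZ => (hsub Z hZ).finite) ?_
    rintro y ⟨hyE, hyU⟩
    obtain ⟨p, rfl⟩ : y ∈ Set.range hU.fromSpec := by rw [hU.range_fromSpec]; exact hyU
    have : p ∈ hU.fromSpec ⁻¹' E := hyE
    rw [hSU] at this
    obtain ⟨Z, hZ, hpZ⟩ := Set.mem_sUnion.mp this
    exact Set.mem_biUnion hZ ⟨p, hpZ, rfl⟩
  let F := (E ∩ U) \ {x}
  have hFc : IsClosed F := by
    have : F = ⋃ y ∈ F, {y} := (Set.biUnion_of_singleton F).symm
    rw [this]
    exact (hfin.subset Set.sdiff_subset).isClosed_biUnion fun y hy =>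
      isClosed_singleton_of_ne_genericPoint hdim fun e => hη (e ▸ hy.1.1)
  refine isOpen_induced_iff.mpr ⟨(U : Set X) \ F, U.2.sdiff hFc, ?_⟩
  ext ⟨y, hy⟩
  simp only [Set.mem_preimage, Set.mem_sdiff, Set.mem_singleton_iff, Subtype.mk.injEq]
  constructor
  · rintro ⟨hyU, hyF⟩
    by_contra hne
    exact hyF ⟨⟨hy, hyU⟩, hne⟩
  · rintro rfl
    exact ⟨hxU, fun h => h.2 rfl⟩

/-- A closed discrete set and germs on it glue to a divisor. -/
theorem exists_divisor_with_germs (hdim : topologicalKrullDim X ≤ 1) {E : Set X} (hE : IsClosed E)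
    (hη : genericPoint X ∉ E) (d : ∀ x : X, Germ X x) :
    ∃ D : Divisor X, supp D ⊆ E ∧ ∀ x ∈ E, D.1 x = d x := by
  classical
  refine ⟨⟨fun x => if x ∈ E then d x else 1, fun x => ?_⟩, fun x hx => ?_, fun x hx => if_pos hx⟩
  · by_cases hx : x ∈ E
    · obtain ⟨f, hf⟩ := QuotientGroup.mk_surjective (d x)
      have hS : IsClosed (E ∪ supp (CDiv.div f)) := hE.union (isClosed_supp _)
      have hηS : genericPoint X ∉ E ∪ supp (CDiv.div f) := fun h =>
        h.elim hη (genericPoint_not_mem_supp _)
      haveI := discreteTopology_of_isClosed hdim hS hηS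
      obtain ⟨V, hV, hVeq⟩ := isOpen_induced_iff.mp
        (discreteTopology_iff_isOpen_singleton.mp ‹_›
          (⟨x, Or.inl hx⟩ : ↥(E ∪ supp (CDiv.div f))))
      have hxV : x ∈ V := (Set.ext_iff.mp hVeq ⟨x, Or.inl hx⟩).mpr rfl
      refine ⟨⟨V, hV⟩, f, hxV, fun y hy => ?_⟩
      by_cases hyx : y = x
      · subst hyx
        simp only [if_pos hx]
        exact hf.symm
      · have hy' : y ∉ E ∪ supp (CDiv.div f) := fun h =>
          hyx (congrArg Subtype.val ((Set.ext_iff.mp hVeq ⟨y, h⟩).mp hy))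
        simp only [if_neg fun h => hy' (Or.inl h)]
        exact (not_not.mp fun h => hy' (Or.inr h)).symm
    · refine ⟨⟨Eᶜ, hE.isOpen_compl⟩, 1, hx, fun y hy => ?_⟩
      simp only [if_neg (show y ∉ E from hy)]
      rfl
  · by_contra h
    exact hx (if_neg h)

theorem existsUnique_divisor_with_germs (hdim : topologicalKrullDim X ≤ 1) {E : Set X} (hE : IsClosed E)
    (hη : genericPoint X ∉ E) (d : ∀ x : X, Germ X x) :
    ∃! D : Divisor X, supp D ⊆ E ∧ ∀ x ∈ E, D.1 x = d x := by
  obtain ⟨D, hD⟩ := exists_divisor_with_germs hdim hE hη d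
  refine ⟨D, hD, fun D' hD' => Subtype.ext (funext fun x => ?_)⟩
  by_cases hx : x ∈ E
  · rw [hD'.2 x hx, hD.2 x hx]
  · rw [not_not.mp fun h => hx (hD'.1 h), not_not.mp fun h => hx (hD.1 h)]

theorem exists_effective_decomposition (hdim : topologicalKrullDim X ≤ 1) (D : Divisor X) :
    ∃ D' D'' : Divisor X, IsEffective D' ∧ IsEffective D'' ∧ D = D' * D''⁻¹ ∧
      supp D' ⊆ supp D ∧ supp D'' ⊆ supp D := by
  have hrep : ∀ x : X, ∃ a b : X.presheaf.stalk x, ∃ (ha : algebraMap _ X.functionField a ≠ 0)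
      (hb : algebraMap _ X.functionField b ≠ 0),
        D.1 x = germOf X x (Units.mk0 _ ha) * (germOf X x (Units.mk0 _ hb))⁻¹ := by
    intro x
    obtain ⟨f, hf⟩ := QuotientGroup.mk_surjective (D.1 x)
    obtain ⟨a, b, hb, hab⟩ := IsFractionRing.div_surjective (A := X.presheaf.stalk x)
      (f : X.functionField)
    have hb0 : algebraMap (X.presheaf.stalk x) X.functionField b ≠ 0 := fun h =>
      nonZeroDivisors.ne_zero hb (algebraMap_stalk_injective x (h.trans (map_zero _).symm))
    have ha0 : algebraMap (X.presheaf.stalk x) X.functionField a ≠ 0 := fun h => f.ne_zero (by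
      rw [← hab, h, zero_div])
    refine ⟨a, b, ha0, hb0, hf.symm.trans ?_⟩
    rw [← div_eq_mul_inv]
    exact congrArg (QuotientGroup.mk (s := stalkUnits X x))
      (Units.ext (u := f) (v := Units.mk0 _ ha0 / Units.mk0 _ hb0) (by
        rw [Units.val_div_eq_div_val]; exact hab.symm))
  choose a b ha hb hab using hrep
  have hη := genericPoint_not_mem_supp D
  obtain ⟨D', h1, h1'⟩ := exists_divisor_with_germs hdim (isClosed_supp D) hη
    fun x => germOf X x (Units.mk0 _ (ha x))
  obtain ⟨D'', h2, h2'⟩ := exists_divisor_with_germs hdim (isClosed_supp D) hη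
    fun x => germOf X x (Units.mk0 _ (hb x))
  refine ⟨D', D'', fun x => ?_, fun x => ?_, Subtype.ext (funext fun x => ?_), h1, h2⟩
  · by_cases hx : x ∈ supp D
    · exact ⟨a x, ha x, h1' x hx⟩
    · exact ⟨1, by simp, by rw [not_not.mp fun h => hx (h1 h)]; symm; rw [QuotientGroup.eq_one_iff]
                            exact ⟨1, Units.ext (by simp)⟩⟩
  · by_cases hx : x ∈ supp D
    · exact ⟨b x, hb x, h2' x hx⟩
    · exact ⟨1, by simp, by rw [not_not.mp fun h => hx (h2 h)]; symm; rw [QuotientGroup.eq_one_iff]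
                            exact ⟨1, Units.ext (by simp)⟩⟩
  · show D.1 x = D'.1 x * (D''.1 x)⁻¹
    by_cases hx : x ∈ supp D
    · rw [h1' x hx, h2' x hx, hab x]
    · rw [not_not.mp fun h => hx (h1 h), not_not.mp fun h => hx (h2 h), inv_one]
      rw [not_not.mp hx]
      exact (mul_one (1 : Germ X x)).symm

theorem exists_effective_supported_in_open (hdim : topologicalKrullDim X ≤ 1)
    (hX : ∀ x : X, ¬ IsOpen ({x} : Set X)) (U : X.Opens) (hU : (U : Set X).Nonempty) :
    ∃ D : Divisor X, IsEffective D ∧ D ≠ 1 ∧ supp D ⊆ (U : Set X) := by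
  obtain ⟨x, hxU, hx⟩ : ∃ x ∈ U, x ≠ genericPoint X := by
    by_contra h
    push Not at h
    obtain ⟨z, hz⟩ := hU
    refine hX (genericPoint X) ?_
    convert U.2
    ext w
    exact ⟨fun e => by rw [Set.mem_singleton_iff] at e; rw [e, ← h z hz]; exact hz, fun hw => h w hw⟩
  have hcl := isClosed_singleton_of_ne_genericPoint hdim hx
  obtain ⟨a, ha0, hau⟩ : ∃ a : X.presheaf.stalk x, a ≠ 0 ∧ ¬ IsUnit a := by
    by_contra h
    push Not at h
    have hf : IsField (X.presheaf.stalk x) :=
      { exists_pair_ne := exists_pair_ne _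
        mul_comm := mul_comm
        mul_inv_cancel := fun {b} hb => isUnit_iff_exists_inv.mp (h b hb) }
    have h0 := ringKrullDim_stalk_eq_coheight x
    rw [ringKrullDim_eq_zero_of_isField hf] at h0
    have hmax : IsMax x := Order.coheight_eq_zero.mp (WithBot.coe_eq_coe.mp h0).symm
    exact hx ((((genericPoint_spec X).specializes trivial).antisymm
      (hmax ((genericPoint_spec X).specializes trivial))).eq).symm
  have ha : algebraMap (X.presheaf.stalk x) X.functionField a ≠ 0 := fun h =>
    ha0 (algebraMap_stalk_injective x (h.trans (map_zero _).symm))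
  classical
  obtain ⟨D, h1, h2⟩ := exists_divisor_with_germs hdim hcl (fun h => hx h.symm)
    (Function.update (fun _ => 1) x (germOf X x (Units.mk0 _ ha)))
  have hDx : D.1 x = germOf X x (Units.mk0 _ ha) := by rw [h2 x rfl, Function.update_self]
  refine ⟨D, fun y => ?_, fun h => ?_, h1.trans (Set.singleton_subset_iff.mpr hxU)⟩
  · by_cases hy : y = x
    · subst hy; exact ⟨a, ha, hDx⟩
    · refine ⟨1, by simp, ?_⟩
      rw [not_not.mp fun hh => hy (h1 hh)]
      symm
      rw [QuotientGroup.eq_one_iff]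
      exact ⟨1, Units.ext (by simp)⟩
  · obtain ⟨-, b, hb⟩ := (eq_one_iff hDx).mp (show D.1 x = 1 by rw [h]; rfl)
    refine hau (isUnit_iff_exists_inv.mpr ⟨b, algebraMap_stalk_injective x ?_⟩)
    rw [map_mul, hb, map_one]
    exact (Units.mk0 _ ha).mul_inv

end Groth.Agent.Lib.CDivInt
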