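import Groth.Agent.Lib.CDivInt.Basic
import Groth.Prelude.Def_Pi1
import Mathlib.AlgebraicGeometry.OrderOfVanishing
import Mathlib.RingTheory.UniqueFactorizationDomain.Basic

/-!
# Divisors on normal Noetherian integral schemes
-/

set_option autoImplicit false
universe u
open CategoryTheory AlgebraicGeometry TopologicalSpace IsLocalRing
open scoped Pointwise

namespace Groth.Agent.Lib.CDivInt

theorem isDiscreteValuationRing_of_depth_eq_one {R : Type u} [CommRing R] [IsNoetherianRing R]
    [IsLocalRing R] [IsDomain R] [IsIntegrallyClosed R] (h : LocCoh.depth R R = 1) :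
    IsDiscreteValuationRing R := by
  rw [LocCoh.depth] at h
  have hne : maximalIdeal R • (⊤ : Submodule R R) ≠ ⊤ :=
    Groth.Agent.Lib.Depth.Basic.smul_top_ne_top Ideal.IsPrime.ne_top'
  obtain ⟨b, hbm, hbr, -⟩ := Groth.Agent.Lib.Depth.Basic.exists_isSMulRegular_of_succ_le hne
    (n := 0) (by rw [h]; simp)
  have hb0 : b ≠ 0 := by
    rintro rfl
    exact one_ne_zero (α := R) (hbr (by simp : (0 : R) • (1 : R) = (0 : R) • (0 : R)))
  have hq := Groth.Agent.Lib.Depth.SES.idealDepth_quotSMulTop (maximalIdeal R) hbm hbr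
  rw [h] at hq
  haveI : Nontrivial (QuotSMulTop b R) := by
    refine Submodule.Quotient.nontrivial_iff.mpr fun htop => ?_
    obtain ⟨c, -, hc⟩ := (Submodule.mem_smul_pointwise_iff_exists _ _ _).mp
      (by rw [htop]; trivial : (1 : R) ∈ b • (⊤ : Submodule R R))
    exact hbm (isUnit_iff_exists_inv.mpr ⟨c, hc⟩)
  have h0 : LocCoh.depth R (QuotSMulTop b R) = 0 := by
    rw [LocCoh.depth]
    exact WithTop.add_right_cancel (z := 1) (by simp) (hq.trans (zero_add 1).symm)
  obtain ⟨-, x, hx⟩ := (isAssociatedPrime_iff).mp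
    ((Groth.Agent.Lib.Depth.Assoc.depth_eq_zero_iff (R := R) (M := QuotSMulTop b R)).mp h0)
  obtain ⟨a, rfl⟩ := Submodule.Quotient.mk_surjective _ x
  have hcol : ∀ r : R, r ∈ maximalIdeal R ↔ b ∣ r * a := fun r => by
    rw [hx, Submodule.mem_colon_singleton, Submodule.mem_bot, ← Submodule.Quotient.mk_smul,
      Submodule.Quotient.mk_eq_zero, Submodule.mem_smul_pointwise_iff_exists]
    exact ⟨fun ⟨c, _, hc⟩ => ⟨c, hc.symm⟩, fun ⟨c, hc⟩ => ⟨c, trivial, hc.symm⟩⟩
  have hna : ¬ b ∣ a := fun hd => (maximalIdeal.isMaximal R).ne_top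
    ((Ideal.eq_top_iff_one _).mpr ((hcol 1).mpr (by rwa [one_mul])))
  let K := FractionRing R
  have hbK : algebraMap R K b ≠ 0 := IsFractionRing.to_map_eq_zero_iff.not.mpr hb0
  have key : ∃ c ∈ maximalIdeal R, ∃ u : R, IsUnit u ∧ b * u = c * a := by
    by_contra hc
    push Not at hc
    let t : K := algebraMap R K a / algebraMap R K b
    have hint : IsIntegral R t := by
      refine isIntegral_of_smul_mem_submodule
        (Submodule.map (Algebra.linearMap R K) (maximalIdeal R)) ?_
        ((IsNoetherian.noetherian _).map _) t ?_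
      · exact (Submodule.ne_bot_iff _).mpr ⟨_, ⟨b, hbm, rfl⟩, hbK⟩
      · rintro _ ⟨r, hr, rfl⟩
        obtain ⟨u, hu⟩ := (hcol r).mp hr
        refine ⟨u, fun hunit => hc r hr u hunit hu.symm, ?_⟩
        show algebraMap R K u = t * algebraMap R K r
        rw [div_mul_eq_mul_div, eq_div_iff hbK, ← map_mul, ← map_mul, mul_comm u, ← hu, mul_comm]
    obtain ⟨w, hw⟩ := IsIntegrallyClosed.algebraMap_eq_of_integral hint
    refine hna ⟨w, IsFractionRing.injective R K ?_⟩
    rw [map_mul, hw, mul_div_cancel₀ _ hbK]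
  obtain ⟨c, hcm, u, hu, hbu⟩ := key
  have hspan : maximalIdeal R = Ideal.span {c} := by
    refine le_antisymm (fun r hr => ?_) ((Ideal.span_singleton_le_iff_mem _).mpr hcm)
    obtain ⟨d, hd⟩ := (hcol r).mp hr
    refine Ideal.mem_span_singleton.mpr ⟨d * ↑hu.unit⁻¹, ?_⟩
    have h1 : b * (r * u) = b * (c * d) := by linear_combination r * hbu + c * hd
    rw [← mul_assoc, ← mul_left_cancel₀ hb0 h1, mul_assoc, IsUnit.mul_val_inv, mul_one]
  have hf : ¬ IsField R := fun hf => hb0 (by
    have := (isField_iff_maximalIdeal_eq.mp hf)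
    rw [this] at hbm
    exact (Submodule.mem_bot R).mp hbm)
  exact (((IsDiscreteValuationRing.TFAE R hf).out 0 4 :
    IsDiscreteValuationRing R ↔ (maximalIdeal R).IsPrincipal)).mpr ⟨⟨c, hspan⟩⟩

open CDiv

variable {X : Scheme.{u}} [IsIntegral X] [IsLocallyNoetherian X]

theorem isDVR_of_coheight_eq_one (hX : Pi1.IsNormalScheme X) {x : X} (hx : Order.coheight x = 1) :
    IsDiscreteValuationRing (X.presheaf.stalk x) := by
  haveI := (hX x).1
  haveI := (hX x).2
  haveI : Ring.KrullDimLE 1 (X.presheaf.stalk x) := krullDimLE_of_coheight_le hx.le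
  have hf : ¬ IsField (X.presheaf.stalk x) := fun hf => by
    have h1 := ringKrullDim_stalk_eq_coheight x
    rw [ringKrullDim_eq_zero_of_isField hf, hx] at h1
    exact zero_ne_one (WithBot.coe_eq_coe.mp h1)
  exact (((IsDiscreteValuationRing.TFAE (X.presheaf.stalk x) hf).out 0 3 :
    IsDiscreteValuationRing (X.presheaf.stalk x) ↔ IsIntegrallyClosed (X.presheaf.stalk x) ∧
      ∃! P : Ideal (X.presheaf.stalk x), P ≠ ⊥ ∧ P.IsPrime)).mpr
    ⟨inferInstance, exists_unique_prime hf⟩
where
  exists_unique_prime {R : Type u} [CommRing R] [IsLocalRing R] [IsDomain R] [Ring.KrullDimLE 1 R]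
      (hf : ¬ IsField R) : ∃! P : Ideal R, P ≠ ⊥ ∧ P.IsPrime :=
    ⟨maximalIdeal R, ⟨fun h => hf (isField_iff_maximalIdeal_eq.mpr h), inferInstance⟩,
      fun P hP => by
        haveI := hP.2
        exact eq_maximalIdeal (hP.2.isMaximal_of_ne_bot hP.1)⟩

theorem coheight_eq_one_of_depth (hX : Pi1.IsNormalScheme X) {x : X}
    (h : LocCoh.depth (X.presheaf.stalk x) (X.presheaf.stalk x) = 1) : Order.coheight x = 1 := by
  haveI := (hX x).1
  haveI := (hX x).2
  haveI := isDiscreteValuationRing_of_depth_eq_one h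
  have h1 := IsDiscreteValuationRing.ringKrullDim_eq_one (R := X.presheaf.stalk x)
  rw [ringKrullDim_stalk_eq_coheight] at h1
  exact WithBot.coe_eq_coe.mp h1

theorem ord_mul_units (f g : KUnits X) (x : X) :
    Scheme.ord ((f * g : KUnits X) : X.functionField) x =
      Scheme.ord (f : X.functionField) x + Scheme.ord (g : X.functionField) x := by
  rw [Units.val_mul, Scheme.ord_mul f.ne_zero g.ne_zero]

theorem ord_one (x : X) : Scheme.ord ((1 : KUnits X) : X.functionField) x = 0 := by
  have := ord_mul_units (1 : KUnits X) 1 x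
  rw [one_mul] at this
  omega

theorem ord_inv (f : KUnits X) (x : X) :
    Scheme.ord ((f⁻¹ : KUnits X) : X.functionField) x = - Scheme.ord (f : X.functionField) x := by
  have := ord_mul_units f f⁻¹ x
  rw [mul_inv_cancel, ord_one] at this
  omega

theorem ord_nonneg_of_reg {f : KUnits X} {x : X} (hx : Order.coheight x = 1)
    (h : Reg (f : X.functionField) x) : 0 ≤ Scheme.ord (f : X.functionField) x := by
  haveI : Ring.KrullDimLE 1 (X.presheaf.stalk x) := krullDimLE_of_coheight_le hx.le
  obtain ⟨a, ha⟩ := h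
  rw [Scheme.le_ord_iff hx f.ne_zero, ← ha, ofAdd_zero, WithZero.coe_one]
  refine Ring.ordFrac_ge_one_of_ne_zero fun h0 => f.ne_zero ?_
  rw [← ha, h0, map_zero]

theorem reg_of_ord_nonneg (hX : Pi1.IsNormalScheme X) {f : KUnits X} {x : X}
    (hx : Order.coheight x = 1) (h : 0 ≤ Scheme.ord (f : X.functionField) x) :
    Reg (f : X.functionField) x := by
  haveI := (hX x).1
  haveI := isDVR_of_coheight_eq_one hX hx
  rcases ValuationRing.isInteger_or_isInteger (X.presheaf.stalk x) (f : X.functionField) with ⟨a, ha⟩ | ⟨b, hb⟩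
  · exact ⟨a, ha⟩
  · by_cases hu : IsUnit b
    · refine ⟨↑hu.unit⁻¹, (eq_inv_of_mul_eq_one_left ?_).trans (inv_inv _)⟩
      rw [← hb, ← map_mul, IsUnit.val_inv_mul, map_one]
    · exfalso
      haveI : Ring.KrullDimLE 1 (X.presheaf.stalk x) := krullDimLE_of_coheight_le hx.le
      have hb0 : b ≠ 0 := fun h0 => inv_ne_zero f.ne_zero (by rw [← hb, h0, map_zero])
      have h1 : Scheme.ord ((f⁻¹ : KUnits X) : X.functionField) x ≠ 0 := by
        intro e
        rw [Scheme.ord_eq_iff hx (f⁻¹).ne_zero, ofAdd_zero, WithZero.coe_one, Units.val_inv_eq_inv_val,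
          ← hb] at e
        exact hu (Ring.isUnit_iff_ordFrac_one_of_isDiscreteValuationRing.mpr e)
      have h2 : 0 ≤ Scheme.ord ((f⁻¹ : KUnits X) : X.functionField) x :=
        ord_nonneg_of_reg hx ⟨b, by rw [Units.val_inv_eq_inv_val]; exact hb⟩
      rw [ord_inv] at h1 h2
      omega

/-- A rational function with non-negative order at all codimension one generizations is regular. -/
theorem reg_of_forall_ord_nonneg (hX : Pi1.IsNormalScheme X) {f : KUnits X} {x : X}
    (h : ∀ y, y ⤳ x → Order.coheight y = 1 → 0 ≤ Scheme.ord (f : X.functionField) y) :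
    Reg (f : X.functionField) x := by
  by_contra hx
  obtain ⟨y, hyx, hd, hy⟩ := exists_depth_one_not_reg _ hx
  exact hy (reg_of_ord_nonneg hX (coheight_eq_one_of_depth hX hd)
    (h y hyx (coheight_eq_one_of_depth hX hd)))

/-- Functions with the same orders at all codimension one generizations have the same germ. -/
theorem germOf_eq_of_forall_ord_eq (hX : Pi1.IsNormalScheme X) {f g : KUnits X} {x : X}
    (h : ∀ y, y ⤳ x → Order.coheight y = 1 →
      Scheme.ord (f : X.functionField) y = Scheme.ord (g : X.functionField) y) :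
    germOf X x f = germOf X x g := by
  rw [← inv_mul_eq_one]
  show (QuotientGroup.mk (f⁻¹ * g) : Germ X x) = 1
  rw [germOf_eq_one_iff]
  constructor
  · exact reg_of_forall_ord_nonneg hX fun y hy h1 => by
      rw [ord_mul_units, ord_inv, h y hy h1]; omega
  · exact reg_of_forall_ord_nonneg hX fun y hy h1 => by
      rw [ord_inv, ord_mul_units, ord_inv, h y hy h1]; omega

theorem isEffective_iff_ord (hX : Pi1.IsNormalScheme X) (D : Divisor X) :
    IsEffective D ↔ ∀ x : X, Order.coheight x = 1 → ∀ f : KUnits X, D.1 x = germOf X x f →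
      0 ≤ Scheme.ord (f : X.functionField) x := by
  constructor
  · exact fun h x hx f hf => ord_nonneg_of_reg hx ((isEffectiveAt_iff hf).mp (h x))
  · refine fun h => isEffective_of_depth_one D fun x hd => ?_
    obtain ⟨U, f, hxU, hU⟩ := D.2 x
    exact (isEffectiveAt_iff (hU x hxU)).mpr (reg_of_ord_nonneg hX (coheight_eq_one_of_depth hX hd)
      (h x (coheight_eq_one_of_depth hX hd) f (hU x hxU)))

theorem eq_one_of_ord (hX : Pi1.IsNormalScheme X) (D : Divisor X)
    (h : ∀ x : X, Order.coheight x = 1 → ∀ f : KUnits X, D.1 x = germOf X x f →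
      Scheme.ord (f : X.functionField) x = 0) : D = 1 := by
  refine Subtype.ext (funext fun x => (eq_one_iff_effective D x).mpr ⟨?_, ?_⟩)
  · exact (isEffective_iff_ord hX D).mpr (fun y hy f hf => (h y hy f hf).ge) x
  · refine (isEffective_iff_ord hX D⁻¹).mpr (fun y hy f hf => ?_) x
    have hf' : D.1 y = germOf X y f⁻¹ := by
      have := inv_apply hf
      rwa [inv_inv] at this
    have := h y hy f⁻¹ hf'
    rw [ord_inv] at this
    omega

end Groth.Agent.Lib.CDivInt
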