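import Groth.Agent.Lib.CDivInt.Pic
import Groth.Agent.Lib.ParaF.Local
import Groth.Agent.Lib.WDivOrd.Basic

/-!
# Local principality of cycles from parafactoriality
-/

set_option autoImplicit false
universe u
open CategoryTheory AlgebraicGeometry TopologicalSpace Opposite IsLocalRing

noncomputable section

namespace Groth.Agent.Lib.CDivInt.Parafactorial

open Groth.Agent.Lib Groth.Agent.Lib.CDivInt

variable {X : Scheme.{u}} [IsIntegral X]

section Transfer

variable {Y : Scheme.{u}} [IsIntegral Y] (j : Y ⟶ X) (hη : j (genericPoint Y) = genericPoint X)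

/-- The map of function fields. -/
def theta : X.functionField ⟶ Y.functionField :=
  X.presheaf.stalkSpecializes (Inseparable.of_eq hη).specializes ≫ j.stalkMap (genericPoint Y)

theorem theta_algebraMap (y : Y) (a : X.presheaf.stalk (j y)) :
    (theta j hη).hom (algebraMap (X.presheaf.stalk (j y)) X.functionField a) =
      algebraMap (Y.presheaf.stalk y) Y.functionField ((j.stalkMap y).hom a) := by
  show (X.presheaf.stalkSpecializes ((genericPoint_spec X).specializes trivial) ≫ theta j hη) a =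
    (j.stalkMap y ≫ Y.presheaf.stalkSpecializes ((genericPoint_spec Y).specializes trivial)) a
  rw [← Scheme.Hom.stalkSpecializes_stalkMap j (genericPoint Y) y ((genericPoint_spec Y).specializes trivial),
    theta, TopCat.Presheaf.stalkSpecializes_comp_assoc]

variable [SurjectiveOnStalks j]

theorem theta_bijective : Function.Bijective (theta j hη).hom := by
  refine ⟨(theta j hη).hom.injective, ?_⟩
  have h1 : IsIso (X.presheaf.stalkSpecializes (Inseparable.of_eq hη).specializes) :=
    (X.presheaf.stalkCongr (Inseparable.of_eq hη.symm)).isIso_hom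
  intro b
  obtain ⟨a, rfl⟩ := j.stalkMap_surjective (genericPoint Y) b
  obtain ⟨c, rfl⟩ := (ConcreteCategory.bijective_of_isIso
    (X.presheaf.stalkSpecializes (Inseparable.of_eq hη).specializes)).2 a
  exact ⟨c, rfl⟩

include hη in
theorem stalkMap_bijective (y : Y) : Function.Bijective (j.stalkMap y).hom := by
  refine ⟨fun a b h => algebraMap_stalk_injective (j y) ((theta j hη).hom.injective ?_),
    j.stalkMap_surjective y⟩
  rw [theta_algebraMap, theta_algebraMap, h]

/-- The ring isomorphism of local rings. -/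
def stalkEquiv (y : Y) : X.presheaf.stalk (j y) ≃+* Y.presheaf.stalk y :=
  RingEquiv.ofBijective (j.stalkMap y).hom (stalkMap_bijective j hη y)

include hη in
theorem coheight_eq (y : Y) : Order.coheight (j y) = Order.coheight y := by
  have h := ringKrullDim_eq_of_ringEquiv (stalkEquiv j hη y)
  rw [ringKrullDim_stalk_eq_coheight, ringKrullDim_stalk_eq_coheight] at h
  exact WithBot.coe_eq_coe.mp h

include hη in
theorem isNormal (hX : Pi1.IsNormalScheme X) : Pi1.IsNormalScheme Y := fun y => by
  haveI := (hX (j y)).2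
  exact ⟨inferInstance, IsIntegrallyClosed.of_equiv (stalkEquiv j hη y)⟩

theorem ord_theta [IsLocallyNoetherian X] [IsLocallyNoetherian Y] (hX : Pi1.IsNormalScheme X)
    {y : Y} (hy : Order.coheight y = 1) (g : X.functionField) :
    Scheme.ord ((theta j hη).hom g) y = Scheme.ord g (j y) := by
  have hjy : Order.coheight (j y) = 1 := (coheight_eq j hη y).trans hy
  haveI := isDVR_of_coheight_eq_one hX hjy
  haveI := isDVR_of_coheight_eq_one (isNormal j hη hX) hy
  rw [Scheme.ord_eq_ordHom_of_coheight_eq_one hy, Scheme.ord_eq_ordHom_of_coheight_eq_one hjy]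
  have := WDivOrd.ordFrac_map (K := X.functionField) (K' := Y.functionField) (stalkEquiv j hη y)
    (theta j hη).hom (theta_algebraMap j hη y) g
  show Multiplicative.toAdd ((Ring.ordFrac (Y.presheaf.stalk y) _).unzeroD 1) = _
  rw [this]
  rfl

end Transfer

variable [IsLocallyNoetherian X]

/-- A cycle is principal at a point. -/
def PrincipalAt (Z : X → ℤ) (x : X) : Prop :=
  ∃ f : CDiv.KUnits X, ∀ z : X, Order.coheight z = 1 → z ⤳ x →
    Scheme.ord (f : X.functionField) z = Z z

theorem exists_nhds_of_principalAt (hX : Pi1.IsNormalScheme X) {Z : X → ℤ}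
    (hZ : RefHull.DivSheaf.IsDiv Z) {x : X} {f : CDiv.KUnits X}
    (hf : ∀ z : X, Order.coheight z = 1 → z ⤳ x → Scheme.ord (f : X.functionField) z = Z z) :
    ∃ V : X.Opens, x ∈ V ∧
      ∀ z ∈ V, Order.coheight z = 1 → Scheme.ord (f : X.functionField) z = Z z := by
  obtain ⟨U, hU, hxU, -⟩ := exists_isAffineOpen_mem_and_subset (x := x) (U := (⊤ : X.Opens)) trivial
  let B := {z : X | z ∈ U ∧ Order.coheight z = 1 ∧ Scheme.ord (f : X.functionField) z ≠ Z z}
  have hB : B.Finite := by
    refine ((RefHull.DivSheaf.finite_ord_ne_zero (hX := hX) f.ne_zero hU).union (hZ U hU)).subset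
      fun z ⟨hzU, hz1, hz⟩ => ?_
    by_cases h0 : Scheme.ord (f : X.functionField) z = 0
    · exact Or.inr ⟨hzU, hz1, fun h => hz (h0.trans h.symm)⟩
    · exact Or.inl ⟨hzU, hz1, h0⟩
  have hC : IsClosed (⋃ z ∈ B, closure ({z} : Set X)) := hB.isClosed_biUnion fun z _ => isClosed_closure
  refine ⟨⟨(U : Set X) \ ⋃ z ∈ B, closure ({z} : Set X), U.2.sdiff hC⟩, ⟨hxU, fun h => ?_⟩,
    fun z hz hz1 => ?_⟩
  · obtain ⟨z, hz, hzx⟩ := Set.mem_iUnion₂.mp h
    exact hz.2.2 (hf z hz.2.1 (specializes_iff_mem_closure.mpr hzx))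
  · by_contra hne
    exact hz.2 (Set.mem_biUnion (show z ∈ B from ⟨hz.1, hz1, hne⟩) (subset_closure rfl))

theorem principalAt_of_coheight_le_one (hX : Pi1.IsNormalScheme X) (Z : X → ℤ) {x : X}
    (hx : Order.coheight x ≤ 1) : PrincipalAt Z x := by
  have key : ∀ z : X, Order.coheight z = 1 → z ⤳ x → z = x := by
    intro z hz hzx
    by_contra hne
    have hlt : x < z := lt_of_le_not_ge hzx fun h' => hne ((hzx.antisymm h').eq)
    have := Order.coheight_add_one_le hlt
    rw [hz] at this
    exact absurd (this.trans hx) (by norm_num)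
  by_cases h1 : Order.coheight x = 1
  · obtain ⟨a, ha, ha'⟩ := RefHull.DivRef.exists_ord_eq hX h1 (Z x)
    exact ⟨Units.mk0 a ha, fun z hz hzx => by rw [key z hz hzx]; exact ha'⟩
  · exact ⟨1, fun z hz hzx => absurd (key z hz hzx ▸ hz) h1⟩

/-- Descent from the punctured spectrum. -/
theorem principalAt_of_parafactorial (hX : Pi1.IsNormalScheme X) {Z : X → ℤ}
    (hZ : RefHull.DivSheaf.IsDiv Z) {x : X} (hx : 2 ≤ Order.coheight x)
    (hpar : ParaF.IsParafactorialLocalRing (X.presheaf.stalk x))
    (H : ∀ y : X, y ⤳ x → y ≠ x → PrincipalAt Z y) : PrincipalAt Z x := by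
  let A := X.presheaf.stalk x
  let P : (Spec A).Opens := FEt.puncturedSpec A
  let j : (P : Scheme.{u}) ⟶ X := P.ι ≫ X.fromSpecStalk x
  have hjne : ∀ p : P, j p ≠ x := fun p e => p.2 (by
    show p.1 ∈ ({closedPoint A} : Set (PrimeSpectrum A))
    apply Set.mem_singleton_iff.mpr
    refine (X.fromSpecStalk x).isEmbedding.injective ?_
    rw [Scheme.fromSpecStalk_closedPoint]
    exact e)
  have hjsp : ∀ p : P, j p ⤳ x := fun p =>
    (Scheme.range_fromSpecStalk (X := X) (x := x)).le ⟨p.1, rfl⟩
  have hlift : ∀ z : X, z ⤳ x → z ≠ x → ∃ p : ↥(P : Scheme.{u}), j p = z := by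
    intro z hz hne
    obtain ⟨p, hp⟩ := (Scheme.range_fromSpecStalk (X := X) (x := x)).ge hz
    refine ⟨⟨p, fun h => hne ?_⟩, hp⟩
    rw [← hp, Set.mem_singleton_iff.mp h]
    exact Scheme.fromSpecStalk_closedPoint
  have hηx : genericPoint X ⤳ x := (genericPoint_spec X).specializes trivial
  have hηne : genericPoint X ≠ x := fun e => by
    have h0 : Order.coheight (genericPoint X) = 0 := by
      refine Order.coheight_eq_zero.mpr fun z hz => ?_
      exact (genericPoint_spec X).specializes trivial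
    rw [← e, h0] at hx
    exact absurd hx (by norm_num)
  obtain ⟨p₀, hp₀⟩ := hlift _ hηx hηne
  haveI : Nonempty P := ⟨p₀⟩
  haveI : IsDomain A := (hX x).1
  haveI : AlgebraicGeometry.IsIntegral (P : Scheme.{u}) := inferInstance
  haveI : IsLocallyNoetherian (P : Scheme.{u}) := inferInstance
  have hη : j (genericPoint (P : Scheme.{u})) = genericPoint X := by
    refine (Specializes.antisymm ?_ ((genericPoint_spec X).specializes trivial)).eq
    rw [← hp₀]
    exact ((genericPoint_spec (P : Scheme.{u})).specializes trivial).map j.continuous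
  have hY : Pi1.IsNormalScheme (P : Scheme.{u}) := isNormal j hη hX
  let Z' : ↥(P : Scheme.{u}) → ℤ := fun p => Z (j p)
  have hrep : Pic.LocPrincipal Z' := by
    intro p
    obtain ⟨f, hf⟩ := H _ (hjsp p) (hjne p)
    obtain ⟨V, hpV, hV⟩ := exists_nhds_of_principalAt hX hZ hf
    refine ⟨j ⁻¹ᵁ V, Units.map (theta j hη).hom.toMonoidHom f, hpV, fun z hz hz1 => ?_⟩
    exact (ord_theta j hη hX hz1 f).trans (hV _ hz ((coheight_eq j hη z).trans hz1))
  have hD : RefHull.DivSheaf.IsDiv Z' := by
    intro U hU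
    choose V f hpV hf using hrep
    obtain ⟨t, ht⟩ := hU.isCompact.elim_finite_subcover (fun p => (V p : Set P))
      (fun p => (V p).2) (fun p _ => Set.mem_iUnion.mpr ⟨p, hpV p⟩)
    refine (t.finite_toSet.biUnion fun p _ =>
      RefHull.DivSheaf.finite_ord_ne_zero (hX := hY) (f p).ne_zero hU).subset fun y ⟨hyU, hy1, hy⟩ => ?_
    obtain ⟨p, hp, hyp⟩ := Set.mem_iUnion₂.mp (ht hyU)
    exact Set.mem_biUnion hp ⟨hyU, hy1, by rw [hf p y hyp hy1]; exact hy⟩
  obtain ⟨e⟩ := ((Groth.Agent.Lib.ParaF.Local.isParafactorialLocalRing_iff A).mp hpar).2 _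
    (Pic.isInvertible_divSh hY hrep)
  obtain ⟨v, hv, hvZ⟩ := RefHull.DivRef.exists_section (hX := hY) hD
  obtain ⟨g, hg, hgord⟩ := Pic.exists_ord_eq_of_iso hY (RefHull.DivRef.isRef1 hY hD) hv ⟨e⟩
  obtain ⟨f, rfl⟩ := (theta_bijective j hη).2 g
  refine ⟨Units.mk0 f (fun h => hg (by rw [h, map_zero])), fun z hz1 hzx => ?_⟩
  obtain ⟨p, hp⟩ := hlift z hzx (fun e => by
    rw [← e, hz1] at hx
    exact absurd hx (by norm_num))
  subst hp
  have hp1 : Order.coheight p = 1 := (coheight_eq j hη p).symm.trans hz1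
  show Scheme.ord f (j p) = Z (j p)
  rw [← ord_theta j hη hX hp1, ← hgord p hp1, hvZ p hp1]

theorem principalAt_everywhere (hX : Pi1.IsNormalScheme X) (S : Set ↥X)
    (hpar : ∀ x : ↥X, closure {x} ∩ S = ∅ → (2 : WithBot ℕ∞) ≤ ringKrullDim ↑(X.presheaf.stalk x) →
        ParaF.IsParafactorialLocalRing ↑(X.presheaf.stalk x))
    {Z : X → ℤ} (hZ : RefHull.DivSheaf.IsDiv Z) (hS : ∀ s ∈ S, PrincipalAt Z s) :
    ∀ x, PrincipalAt Z x := by
  have key : ∀ n : ℕ, ∀ x : X, Order.coheight x ≤ n → PrincipalAt Z x := by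
    intro n
    induction n with
    | zero => exact fun x hx => principalAt_of_coheight_le_one hX Z (hx.trans zero_le_one)
    | succ n ih =>
      intro x hx
      by_cases h1 : Order.coheight x ≤ 1
      · exact principalAt_of_coheight_le_one hX Z h1
      by_cases hne : (closure {x} ∩ S).Nonempty
      · obtain ⟨s, hs, hsS⟩ := hne
        obtain ⟨f, hf⟩ := hS s hsS
        exact ⟨f, fun z hz hzx => hf z hz (hzx.trans (specializes_iff_mem_closure.mpr hs))⟩
      have h2 : (2 : ℕ∞) ≤ Order.coheight x := by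
        rw [← one_add_one_eq_two]
        exact ENat.add_one_le_iff (by norm_num) |>.mpr (not_le.mp h1)
      refine principalAt_of_parafactorial hX hZ h2
        (hpar x (Set.not_nonempty_iff_eq_empty.mp hne) ?_) fun y hy hyne => ih y ?_
      · rw [ringKrullDim_stalk_eq_coheight]
        exact WithBot.coe_le_coe.mpr h2
      · have hlt : x < y := lt_of_le_not_ge hy fun h' => hyne ((hy.antisymm h').eq)
        have := (Order.coheight_add_one_le hlt).trans hx
        exact ENat.add_le_add_iff_right (by norm_num : (1 : ℕ∞) ≠ ⊤) |>.mp (by exact_mod_cast this)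
  intro x
  haveI : IsNoetherianRing (X.presheaf.stalk x) := inferInstance
  have hlt : ringKrullDim (X.presheaf.stalk x) < ⊤ := ringKrullDim_lt_top
  rw [ringKrullDim_stalk_eq_coheight] at hlt
  obtain ⟨n, hn⟩ := ENat.ne_top_iff_exists.mp (fun h => by
    rw [h] at hlt
    exact lt_irrefl _ hlt : Order.coheight x ≠ ⊤)
  exact key n x hn.ge

end Groth.Agent.Lib.CDivInt.Parafactorial
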