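import Groth.Agent.Lib.CDivInt.Cycles
import Groth.Agent.Lib.RefHull.Group
import Groth.Agent.Lib.CurveBundle.Coherent
import Groth.Agent.Lib.TensorMod.LocFree
import Groth.Agent.Lib.ProjTilde.LocTriv

/-!
# Invertible modules and Weil divisors on normal integral schemes
-/

set_option autoImplicit false
universe u
open CategoryTheory AlgebraicGeometry TopologicalSpace Opposite

noncomputable section

namespace Groth.Agent.Lib.CDivInt.Pic

open Groth.Agent.Lib Groth.Agent.Lib.TensorMod Groth.Agent.Lib.TensorMod.Dual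
open Groth.Agent.Lib.RefHull SecHom Generic RankOne Ord Divisor DivSheaf DivRef

variable {X : Scheme.{u}}

/-- The germ of a generator is a basis of the stalk. -/
theorem stalk_bijective_of_isGen {L : X.Modules} {U : X.Opens} {e : Γ(L, U)}
    (he : Gen.IsGen L U e) {x : X} (hx : x ∈ U) :
    Function.Bijective (LinearMap.toSpanSingleton (X.presheaf.stalk x) (L.presheaf.stalk x)
      (L.presheaf.germ U x hx e)) := by
  constructor
  · rw [injective_iff_map_eq_zero]
    intro r hr
    obtain ⟨V, hxV, a, rfl⟩ := X.presheaf.exists_germ_eq r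
    set W := V ⊓ U
    have hxW : x ∈ W := ⟨hxV, hx⟩
    rw [LinearMap.toSpanSingleton_apply, ← TopCat.Presheaf.germ_res_apply X.presheaf
      (homOfLE (inf_le_left : W ≤ V)) x hxW, ← germ_rs (inf_le_right : W ≤ U) hxW e,
      ← Mero.germ_smul L W x hxW, ← map_zero (L.presheaf.germ W x hxW).hom] at hr
    obtain ⟨T, hxT, i, j, hij⟩ := TopCat.Presheaf.germ_eq L.presheaf x hxW hxW _ _ hr
    let a' := X.presheaf.map (homOfLE (inf_le_left : W ≤ V)).op a
    have h1 : X.presheaf.map (homOfLE i.le).op a' • rs L (i.le.trans inf_le_right) e =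
        (0 : Γ(X, T)) • rs L (i.le.trans inf_le_right) e := by
      rw [zero_smul, ← rs_rs L (inf_le_right : W ≤ U) i.le e]
      refine Eq.trans ?_ (hij.trans (map_zero _))
      exact (PresheafOfModules.map_smul L.val (homOfLE i.le).op a' _).symm
    have h2 := congrArg (X.presheaf.germ T x hxT) ((he T (i.le.trans inf_le_right)).1 h1)
    rw [map_zero, TopCat.Presheaf.germ_res_apply] at h2
    rw [← TopCat.Presheaf.germ_res_apply X.presheaf (homOfLE (inf_le_left : W ≤ V)) x hxW]
    exact h2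
  · intro w
    obtain ⟨V, hV, m, rfl⟩ := TopCat.Presheaf.exists_germ_eq L.presheaf w
    obtain ⟨a, ha⟩ := (he (V ⊓ U) inf_le_right).2 (rs L inf_le_left m)
    refine ⟨X.presheaf.germ (V ⊓ U) x ⟨hV, hx⟩ a, ?_⟩
    rw [LinearMap.toSpanSingleton_apply,
      ← germ_rs (inf_le_right : V ⊓ U ≤ U) (show x ∈ V ⊓ U from ⟨hV, hx⟩) e]
    refine (Mero.germ_smul L (V ⊓ U) _ ⟨hV, hx⟩ a _).symm.trans ?_
    exact (congrArg (L.presheaf.germ (V ⊓ U) _ ⟨hV, hx⟩) ha).trans (germ_rs _ _ m)

theorem span_germ_eq_top {L : X.Modules} {U : X.Opens} {e : Γ(L, U)}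
    (he : Gen.IsGen L U e) {x : X} (hx : x ∈ U) :
    Submodule.span (X.presheaf.stalk x) {L.presheaf.germ U x hx e} = ⊤ := by
  refine eq_top_iff.mpr fun w _ => Submodule.mem_span_singleton.mpr ?_
  obtain ⟨r, hr⟩ := (stalk_bijective_of_isGen he hx).2 w
  exact ⟨r, hr⟩

variable [IsIntegral X] [IsLocallyNoetherian X]

theorem isRef1_of_isInvertible {L : X.Modules} (hL : PicF.IsInvertible L) : RefHull.IsRef1 L := by
  have hc : Coh.IsCoh L :=
    CurveBundle.Coherent.isCoh (LocFree.of_rank (LocFree.of_isInvertible hL))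
  haveI := hc.1
  refine ⟨hc, (Reflexive.isReflexive_iff_forall hc).mpr fun x => ?_, ⊤, by simp, ?_⟩
  · obtain ⟨U, e, hx, he⟩ := Gen.isInvertible_iff.mp hL x
    exact Module.equiv (R := X.presheaf.stalk x) (LinearEquiv.ofBijective _ (stalk_bijective_of_isGen he hx))
  · exact ProjTilde.LocTriv.isInvertible_restrict ⊤ fun x _ => hL x

variable (hX : Pi1.IsNormalScheme X)

include hX in
/-- The class map is injective. -/
theorem iso_structure_of_ord_eq {L : X.Modules} (hL : RefHull.IsRef1 L)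
    {v : L.presheaf.stalk (genericPoint ↥X)} (hv : v ≠ 0) {f : X.functionField} (hf : f ≠ 0)
    (h : ∀ x : X, Order.coheight x = 1 → secOrd L v x = Scheme.ord f x) :
    Nonempty (L ≅ Coh.structureModule X) := by
  obtain ⟨s, hs, h0⟩ := Group.one_section hX
  exact (iso_iff hX hL Group.isRef1_structure hv hs).mpr ⟨f, hf, fun x hx => by
    rw [h x hx, h0 x hx, zero_add]⟩

include hX in
/-- A trivial class has principal divisor. -/
theorem exists_ord_eq_of_iso {L : X.Modules} (hL : RefHull.IsRef1 L)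
    {v : L.presheaf.stalk (genericPoint ↥X)} (hv : v ≠ 0) (h : Nonempty (L ≅ Coh.structureModule X)) :
    ∃ f : X.functionField, f ≠ 0 ∧
      ∀ x : X, Order.coheight x = 1 → secOrd L v x = Scheme.ord f x := by
  obtain ⟨s, hs, h0⟩ := Group.one_section hX
  obtain ⟨f, hf, hf'⟩ := (iso_iff hX hL Group.isRef1_structure hv hs).mp h
  exact ⟨f, hf, fun x hx => by rw [hf' x hx, h0 x hx, zero_add]⟩

/-- A cycle is locally principal. -/
def LocPrincipal (Z : X → ℤ) : Prop :=
  ∀ x : X, ∃ (V : X.Opens) (f : CDiv.KUnits X), x ∈ V ∧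
    ∀ z ∈ V, Order.coheight z = 1 → Scheme.ord (f : X.functionField) z = Z z

theorem isInvertible_divSh {D : X → ℤ} (h : LocPrincipal D) : PicF.IsInvertible (divSh hX D) := by
  refine Gen.isInvertible_iff.mpr fun x => ?_
  obtain ⟨V, f, hxV, hf⟩ := h x
  have hfi : ((f⁻¹ : CDiv.KUnits X) : X.functionField) ≠ 0 := (f⁻¹).ne_zero
  have hcond : ∀ y ∈ V, Cond D ((f⁻¹ : CDiv.KUnits X) : X.functionField) y := fun y hy hy1 => by
    refine Or.inr ?_
    rw [CDivInt.ord_inv, hf y hy hy1]
    omega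
  refine ⟨V, mkSec _ hcond, hxV, fun W hW => ⟨fun a b hab => ?_, fun s => ?_⟩⟩
  · refine TopCat.Presheaf.section_ext X.sheaf W a b fun y hy => ?_
    refine CDivInt.algebraMap_stalk_injective y ?_
    exact mul_right_cancel₀ hfi (congrFun (congrArg Subtype.val hab) ⟨y, hy⟩)
  · by_cases hη : genericPoint ↥X ∈ W
    · let c : X.functionField := s.1 ⟨_, hη⟩
      obtain ⟨r, hr⟩ := exists_function (V := W) hη (c * (f : X.functionField)) fun y hy => by
        by_cases hc : c = 0
        · exact ⟨0, by rw [hc, zero_mul, map_zero]⟩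
        refine CDivInt.reg_of_forall_ord_nonneg hX (f := Units.mk0 c hc * f) fun z hz hz1 => ?_
        have hzW : z ∈ W := hz.mem_open W.isOpen hy
        have h1 := sec_cond s ⟨z, hzW⟩ hz1
        rw [sec_const s hη ⟨z, hzW⟩] at h1
        rw [CDivInt.ord_mul_units, hf z (hW hzW) hz1]
        exact h1.resolve_left hc
      refine ⟨r, Subtype.ext (funext fun y => ?_)⟩
      show algebraMap (X.presheaf.stalk y.1) X.functionField (X.presheaf.germ W y.1 y.2 r) *
        ((f⁻¹ : CDiv.KUnits X) : X.functionField) = s.1 y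
      rw [algebraMap_germ, sec_const s hη y]
      refine (congrArg (· * _) hr).trans ?_
      rw [mul_assoc, Units.mul_inv, mul_one]
    · exact ⟨0, Subtype.ext (funext fun y => absurd ((spec y.1).mem_open W.isOpen y.2) hη)⟩

include hX in
/-- The local coefficients of a rational section. -/
theorem locPrincipal_secOrd {L : X.Modules} (hL : PicF.IsInvertible L)
    {v : L.presheaf.stalk (genericPoint ↥X)} (hv : v ≠ 0) {Z : X → ℤ}
    (hZ : ∀ x : X, Order.coheight x = 1 → secOrd L v x = Z x) : LocPrincipal Z := by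
  intro x
  have hR := isRef1_of_isInvertible hL
  obtain ⟨U, e, hx, he⟩ := Gen.isInvertible_iff.mp hL x
  obtain ⟨φ, hφ⟩ := (stalk_bijective_of_isGen he ((spec x).mem_open U.isOpen hx)).2 v
  rw [LinearMap.toSpanSingleton_apply] at hφ
  have hφ0 : φ ≠ 0 := fun h => hv (by rw [← hφ, h, zero_smul])
  refine ⟨U, Units.mk0 (φ : X.functionField) hφ0, hx, fun z hz hz1 => ?_⟩
  rw [← hZ z hz1, secOrd_eq hX hz1 hR.2.2 (span_germ_eq_top he hz) hv (φ := φ)
    (by rw [toGen_germ]; exact hφ)]
  rfl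

include hX in
theorem exists_divisor_of_locPrincipal {Z : X → ℤ} (h : LocPrincipal Z) :
    ∃ D : CDiv.Divisor X, ∀ x : X, Order.coheight x = 1 → ∀ g : CDiv.KUnits X,
      D.1 x = CDiv.germOf X x g → Scheme.ord (g : X.functionField) x = Z x := by
  choose V f hxV hf using h
  refine ⟨⟨fun x => CDiv.germOf X x (f x), fun x => ⟨V x, f x, hxV x, fun y hy =>
    CDivInt.germOf_eq_of_forall_ord_eq hX fun z hzy hz1 => ?_⟩⟩, fun x hx g hg => ?_⟩
  · rw [hf y z (hzy.mem_open (V y).2 (hxV y)) hz1, hf x z (hzy.mem_open (V x).2 hy) hz1]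
  · rw [← CDivInt.ord_eq_of_germ_eq hx hg, hf x x (hxV x) hx]

theorem ord_prod {ι : Type*} (s : Finset ι) (f : ι → CDiv.KUnits X) (z : X) :
    Scheme.ord ((∏ i ∈ s, f i : CDiv.KUnits X) : X.functionField) z =
      ∑ i ∈ s, Scheme.ord (f i : X.functionField) z := by
  classical
  induction s using Finset.induction_on with
  | empty => simp only [Finset.prod_empty, Finset.sum_empty]; exact CDivInt.ord_one z
  | insert a s ha ih => rw [Finset.prod_insert ha, Finset.sum_insert ha, CDivInt.ord_mul_units, ih]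

theorem ord_zpow (f : CDiv.KUnits X) (n : ℤ) (z : X) :
    Scheme.ord ((f ^ n : CDiv.KUnits X) : X.functionField) z = n * Scheme.ord (f : X.functionField) z := by
  induction n with
  | zero => rw [zpow_zero, zero_mul]; exact CDivInt.ord_one z
  | succ k ih => rw [zpow_add_one, CDivInt.ord_mul_units, ih]; ring
  | pred k ih => rw [zpow_sub_one, CDivInt.ord_mul_units, CDivInt.ord_inv, ih]; ring

include hX in
/-- On a locally factorial scheme every cycle of codimension one is locally principal. -/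
theorem locPrincipal_of_ufd (hU : ∀ x : X, UniqueFactorizationMonoid (X.presheaf.stalk x))
    {Z : X → ℤ} (hD : IsDiv Z) : LocPrincipal Z := by
  classical
  intro x
  obtain ⟨U, hUa, hxU, -⟩ := exists_isAffineOpen_mem_and_subset (x := x) (U := (⊤ : X.Opens)) trivial
  have hfin := hD U hUa
  have hrep : ∀ z ∈ hfin.toFinset, ∃ (V : X.Opens) (f : CDiv.KUnits X), x ∈ V ∧
      ∀ w ∈ V, Order.coheight w = 1 → Scheme.ord (f : X.functionField) w = CDivInt.delta z w :=
    fun z hz => CDivInt.exists_rep_of_ufd hX hU ((Set.Finite.mem_toFinset hfin).mp hz).2.1 x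
  choose V f hxV hf using hrep
  let W : X.Opens := ⟨(U : Set X) ∩ ⋂ p : hfin.toFinset, (V p.1 p.2 : Set X),
    U.2.inter (isOpen_iInter_of_finite fun p => (V p.1 p.2).2)⟩
  refine ⟨W, ∏ p ∈ hfin.toFinset.attach, f p.1 p.2 ^ Z p.1,
    ⟨hxU, Set.mem_iInter.mpr fun p => hxV p.1 p.2⟩, fun w hw hw1 => ?_⟩
  obtain ⟨hwU, hwV⟩ := hw
  rw [Set.mem_iInter] at hwV
  rw [ord_prod]
  have hstep : ∀ p ∈ hfin.toFinset.attach,
      Scheme.ord ((f p.1 p.2 ^ Z p.1 : CDiv.KUnits X) : X.functionField) w =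
        if w = p.1 then Z p.1 else 0 := fun p _ => by
    rw [ord_zpow, hf p.1 p.2 w (hwV p) hw1, CDivInt.delta]
    split_ifs <;> simp
  rw [Finset.sum_congr rfl hstep, Finset.sum_attach hfin.toFinset (fun z => if w = z then Z z else 0),
    Finset.sum_ite_eq]
  split_ifs with hmem
  · rfl
  · by_contra h0
    exact hmem ((Set.Finite.mem_toFinset hfin).mpr ⟨hwU, hw1, fun e => h0 e.symm⟩)

theorem isDiv_of_locFinite {Z : X → ℤ}
    (h : ∀ x : X, ∃ W : X.Opens, x ∈ W ∧ {z : X | z ∈ W ∧ Z z ≠ 0}.Finite) : IsDiv Z := by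
  intro U hU
  choose W hxW hW using h
  obtain ⟨t, ht⟩ := hU.isCompact.elim_finite_subcover (fun x => (W x : Set X)) (fun x => (W x).2)
    (fun x _ => Set.mem_iUnion.mpr ⟨x, hxW x⟩)
  refine (t.finite_toSet.biUnion fun x _ => hW x).subset fun y ⟨hyU, _, hy⟩ => ?_
  obtain ⟨x, hx, hyx⟩ := Set.mem_iUnion₂.mp (ht hyU)
  exact Set.mem_biUnion hx ⟨hyx, hy⟩

include hX in
/-- Locally factorial iff every cycle is the divisor of a section of an invertible module. -/
theorem forall_cycle_iff_ufd :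
    (∀ Z : ↥X → ℤ, (∀ x : ↥X, Order.coheight x ≠ 1 → Z x = 0) →
        (∀ x : ↥X, ∃ W : X.Opens, x ∈ W ∧ {z : ↥X | z ∈ W ∧ Z z ≠ 0}.Finite) →
        ∃ (L : X.Modules) (_ : PicF.IsInvertible L) (s : Cyc.secFibre L (genericPoint ↥X)), s ≠ 0 ∧
          ∀ x : ↥X, Order.coheight x = 1 →
            Cyc.secOrdAt L (genericPoint ↥X) x (genericPoint_specializes x) s = Z x) ↔
      ∀ x : ↥X, UniqueFactorizationMonoid ↑(X.presheaf.stalk x) := by
  constructor
  · intro H
    refine CDivInt.ufd_of_divisors hX fun x₀ h₀ => ?_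
    classical
    obtain ⟨L, hL, s, hs, hsZ⟩ := H (CDivInt.delta x₀)
      (fun x hx => if_neg fun (e : x = x₀) => hx (e ▸ h₀))
      (fun x => ⟨⊤, trivial, (Set.finite_singleton x₀).subset fun z ⟨_, hz⟩ => by
        by_contra hne
        exact hz (if_neg hne)⟩)
    obtain ⟨v, rfl⟩ := Submodule.Quotient.mk_surjective _ s
    obtain ⟨D, hD⟩ := exists_divisor_of_locPrincipal hX
      (locPrincipal_secOrd hX hL (v := v) (fun e => hs (by rw [e]; rfl)) hsZ)
    exact ⟨D, fun g hg => (hD x₀ h₀ g hg).trans (if_pos rfl),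
      fun x hx hx1 g hg => (hD x hx1 g hg).trans (if_neg hx)⟩
  · intro hU Z _ hfin
    have hD := isDiv_of_locFinite hfin
    obtain ⟨v, hv, hvZ⟩ := exists_section (hX := hX) hD
    exact ⟨_, isInvertible_divSh hX (locPrincipal_of_ufd hX hU hD), Submodule.Quotient.mk v,
      fun e => hv (mk_injective (e.trans (Submodule.Quotient.mk_zero _).symm)), hvZ⟩

end Groth.Agent.Lib.CDivInt.Pic
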