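import Groth.Agent.Lib.CDivInt.Normal
import Mathlib.RingTheory.UniqueFactorizationDomain.Defs

/-!
# Locally factorial schemes: every prime cycle of codimension one is a divisor
-/

set_option autoImplicit false
universe u
open CategoryTheory AlgebraicGeometry TopologicalSpace IsLocalRing

namespace Groth.Agent.Lib.CDivInt

open CDiv

variable {X : Scheme.{u}} [IsIntegral X]

/-- A nonzero element of a local ring as a rational function. -/
noncomputable def kOf {x : X} (a : X.presheaf.stalk x) (ha : a ≠ 0) : KUnits X :=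
  Units.mk0 (algebraMap (X.presheaf.stalk x) X.functionField a) fun h =>
    ha (algebraMap_stalk_injective x (h.trans (map_zero _).symm))

theorem kOf_mul {x : X} {a b : X.presheaf.stalk x} (ha : a ≠ 0) (hb : b ≠ 0) (hab : a * b ≠ 0) :
    kOf (a * b) hab = kOf a ha * kOf b hb :=
  Units.ext (map_mul _ _ _)

theorem reg_inv_of_isUnit {x : X} {a : X.presheaf.stalk x} (hu : IsUnit a) (ha : a ≠ 0) :
    Reg (((kOf a ha)⁻¹ : KUnits X) : X.functionField) x := by
  refine ⟨↑hu.unit⁻¹, ?_⟩
  rw [Units.val_inv_eq_inv_val]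
  apply eq_inv_of_mul_eq_one_left
  show algebraMap _ X.functionField _ * algebraMap _ X.functionField a = 1
  rw [← map_mul, IsUnit.val_inv_mul, map_one]

theorem reg_kOf {x : X} {a : X.presheaf.stalk x} (ha : a ≠ 0) {z : X} (h : z ⤳ x) :
    Reg (kOf a ha : X.functionField) z :=
  reg_of_specializes h ⟨a, rfl⟩

variable [IsLocallyNoetherian X]

theorem ord_eq_of_germ_eq {f g : KUnits X} {x : X} (hx : Order.coheight x = 1)
    (h : germOf X x f = germOf X x g) :
    Scheme.ord (f : X.functionField) x = Scheme.ord (g : X.functionField) x := by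
  have h' : (QuotientGroup.mk (f⁻¹ * g) : Germ X x) = 1 := by
    rw [QuotientGroup.mk_mul, QuotientGroup.mk_inv]
    exact inv_mul_eq_one.mpr h
  obtain ⟨h1, h2⟩ := (germOf_eq_one_iff _ x).mp h'
  have h1 := ord_nonneg_of_reg hx h1
  have h2 := ord_nonneg_of_reg hx h2
  rw [ord_inv] at h2
  rw [ord_mul_units, ord_inv] at h1 h2
  omega

theorem eq_of_specializes_of_coheight_one {x₀ z : X} (h₀ : Order.coheight x₀ = 1)
    (hz : Order.coheight z = 1) (h : x₀ ⤳ z) : z = x₀ := by
  by_contra hne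
  have hlt : z < x₀ := lt_of_le_not_ge h fun h' => hne ((h.antisymm h').eq).symm
  have := Order.coheight_add_one_le hlt
  rw [h₀, hz] at this
  exact absurd this (by norm_num)

open Classical in
/-- The order of the prime cycle `x₀` at `z`. -/
noncomputable def delta (x₀ z : X) : ℤ := if z = x₀ then 1 else 0

theorem ord_eq_zero_of_isUnit {z : X} (hz : Order.coheight z = 1) {x : X} (hzx : z ⤳ x)
    {a : X.presheaf.stalk x} (ha : a ≠ 0) (hu : IsUnit a) :
    Scheme.ord (kOf a ha : X.functionField) z = 0 := by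
  have h1 := ord_nonneg_of_reg hz (reg_kOf ha hzx)
  have h2 := ord_nonneg_of_reg hz (f := (kOf a ha)⁻¹)
    (reg_of_specializes hzx (reg_inv_of_isUnit hu ha))
  rw [ord_inv] at h2
  omega

theorem exists_rep_of_ufd (hX : Pi1.IsNormalScheme X)
    (hU : ∀ x : X, UniqueFactorizationMonoid (X.presheaf.stalk x)) {x₀ : X}
    (h₀ : Order.coheight x₀ = 1) (x : X) :
    ∃ (V : X.Opens) (f : KUnits X), x ∈ V ∧ ∀ z ∈ V, Order.coheight z = 1 →
      Scheme.ord (f : X.functionField) z = delta x₀ z := by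
  classical
  by_cases hx : x₀ ⤳ x
  swap
  · refine ⟨⟨(closure {x₀})ᶜ, isClosed_closure.isOpen_compl⟩, 1,
      fun h => hx (specializes_iff_mem_closure.mpr h), fun z hz _ => ?_⟩
    rw [ord_one, delta, if_neg]
    rintro rfl
    exact hz (subset_closure rfl)
  obtain ⟨U, hUa, hxU, -⟩ := exists_isAffineOpen_mem_and_subset (x := x) (U := (⊤ : X.Opens)) trivial
  haveI : Nonempty U := ⟨⟨x, hxU⟩⟩
  haveI : IsNoetherianRing Γ(X, U) := IsLocallyNoetherian.component_noetherian ⟨U, hUa⟩
  have hx₀U : x₀ ∈ U := hx.mem_open U.2 hxU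
  haveI := (hX x₀).1
  haveI := (hX x).1
  haveI := hU x
  haveI := isDVR_of_coheight_eq_one hX h₀
  haveI : Ring.KrullDimLE 1 (X.presheaf.stalk x₀) := krullDimLE_of_coheight_le h₀.le
  obtain ⟨ϖ, hϖ⟩ := IsDiscreteValuationRing.exists_irreducible (X.presheaf.stalk x₀)
  letI := X.presheaf.algebra_section_stalk ⟨x₀, hx₀U⟩
  haveI := hUa.isLocalization_stalk ⟨x₀, hx₀U⟩
  let P := (hUa.primeIdealOf ⟨x₀, hx₀U⟩).asIdeal
  have hgerm : ∀ (z : X) (hz : z ∈ U) (r : Γ(X, U)),
      algebraMap (X.presheaf.stalk z) X.functionField (X.presheaf.germ U z hz r) =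
        algebraMap Γ(X, U) X.functionField r := fun z hz r =>
    Scheme.algebraMap_germ_eq_germToFunctionField X hz r
  have hinj : Function.Injective (algebraMap Γ(X, U) X.functionField) :=
    Scheme.germToFunctionField_injective X U
  have hne : ∀ {z : X} (hz : z ∈ U) {r : Γ(X, U)}, r ≠ 0 → X.presheaf.germ U z hz r ≠ 0 :=
    fun {z} hz {r} hr h => hr (hinj (by rw [← hgerm z hz, h, map_zero, map_zero]))
  obtain ⟨⟨c, s⟩, hcs⟩ := IsLocalization.surj P.primeCompl ϖ
  have hsu : IsUnit (algebraMap Γ(X, U) (X.presheaf.stalk x₀) s) := IsLocalization.map_units _ s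
  have hcirr : Irreducible (algebraMap Γ(X, U) (X.presheaf.stalk x₀) c) := by
    rw [← hcs]; exact (irreducible_mul_isUnit hsu).mpr hϖ
  have hc0 : c ≠ 0 := fun h => hcirr.ne_zero (by rw [h, map_zero])
  have hordc : Scheme.ord (kOf (X.presheaf.germ U x hxU c) (hne hxU hc0) : X.functionField) x₀ = 1 := by
    rw [Scheme.ord_eq_iff h₀ (kOf _ _).ne_zero]
    show Ring.ordFrac (X.presheaf.stalk x₀) (algebraMap _ X.functionField _) = _
    rw [hgerm x hxU, ← hgerm x₀ hx₀U]
    exact (Ring.ordFrac_irreducible hcirr).trans rfl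
  -- a prime factor of order one
  have hfac : ∀ a : X.presheaf.stalk x, ∀ ha : a ≠ 0,
      1 ≤ Scheme.ord (kOf a ha : X.functionField) x₀ →
      ∃ (p : X.presheaf.stalk x) (hp : Prime p), p ∣ a ∧
        1 ≤ Scheme.ord (kOf p hp.ne_zero : X.functionField) x₀ := by
    intro a
    induction a using UniqueFactorizationMonoid.induction_on_prime with
    | h₁ => exact fun ha => absurd rfl ha
    | h₂ b hb =>
      intro ha h
      rw [ord_eq_zero_of_isUnit h₀ hx ha hb] at h
      omega
    | h₃ b p hb hp ih =>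
      intro ha h
      by_cases h1 : 1 ≤ Scheme.ord (kOf p hp.ne_zero : X.functionField) x₀
      · exact ⟨p, hp, dvd_mul_right p b, h1⟩
      · rw [kOf_mul hp.ne_zero hb, ord_mul_units] at h
        obtain ⟨q, hq, hqb, h2⟩ := ih hb (by
          have := ord_nonneg_of_reg h₀ (reg_kOf hp.ne_zero hx)
          omega)
        exact ⟨q, hq, hqb.mul_left p, h2⟩
  obtain ⟨p, hp, hpc, hp1⟩ := hfac _ (hne hxU hc0) hordc.ge
  let π := kOf p hp.ne_zero
  have hπ : Scheme.ord (π : X.functionField) x₀ = 1 := by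
    obtain ⟨d, hd⟩ := hpc
    have hd0 : d ≠ 0 := fun h => hne hxU hc0 (by rw [hd, h, mul_zero])
    have h1 : kOf (X.presheaf.germ U x hxU c) (hne hxU hc0) = π * kOf d hd0 :=
      Units.ext (by
        show algebraMap _ X.functionField _ = algebraMap _ X.functionField p * algebraMap _ _ d
        rw [hd, map_mul])
    rw [h1, ord_mul_units] at hordc
    have := ord_nonneg_of_reg h₀ (reg_kOf hd0 hx)
    show Scheme.ord (π : X.functionField) x₀ = 1
    have hp1' : 1 ≤ Scheme.ord (π : X.functionField) x₀ := hp1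
    omega
  have hdiv : ∀ b ∈ P, Reg (algebraMap Γ(X, U) X.functionField b / (π : X.functionField)) x := by
    intro b hb
    by_cases hb0 : b = 0
    · exact ⟨0, by rw [hb0, map_zero, map_zero, zero_div]⟩
    let β := kOf (X.presheaf.germ U x₀ hx₀U b) (hne hx₀U hb0)
    have hβ : 1 ≤ Scheme.ord (β : X.functionField) x₀ := by
      have h0 := ord_nonneg_of_reg h₀ (reg_kOf (hne hx₀U hb0) (specializes_refl x₀))
      by_contra hlt
      have hreg : Reg ((β⁻¹ : KUnits X) : X.functionField) x₀ :=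
        reg_of_ord_nonneg hX h₀ (by rw [ord_inv]; simp only [β] at h0 hlt ⊢; omega)
      obtain ⟨v, hv⟩ := hreg
      have hu : IsUnit (X.presheaf.germ U x₀ hx₀U b) := isUnit_iff_exists_inv.mpr ⟨v,
        algebraMap_stalk_injective x₀ (by rw [map_mul, hv, map_one]; exact β.mul_inv)⟩
      exact (IsLocalization.AtPrime.isUnit_to_map_iff (X.presheaf.stalk x₀) P b).mp hu hb
    have hreg : Reg ((β * π⁻¹ : KUnits X) : X.functionField) x₀ :=
      reg_of_ord_nonneg hX h₀ (by rw [ord_mul_units, ord_inv, hπ]; omega)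
    have hfun : ((β * π⁻¹ : KUnits X) : X.functionField) =
        algebraMap Γ(X, U) X.functionField b / (π : X.functionField) := by
      rw [Units.val_mul, Units.val_inv_eq_inv_val, ← div_eq_mul_inv]
      exact congrArg (· / _) (hgerm x₀ hx₀U b)
    rw [hfun] at hreg
    obtain ⟨t, ht, htP⟩ := SetLike.not_le_iff_exists.mp ((reg_iff_den hUa _ hx₀U).mp hreg)
    obtain ⟨a, ha⟩ := mem_den.mp ht
    have heq : X.presheaf.germ U x hxU t * X.presheaf.germ U x hxU b = p * X.presheaf.germ U x hxU a := by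
      refine algebraMap_stalk_injective x ?_
      rw [map_mul, map_mul, hgerm, hgerm, hgerm, ha, Algebra.smul_def]
      show _ = (π : X.functionField) * (_ * (_ / _))
      rw [mul_left_comm, mul_div_cancel₀ _ π.ne_zero]
    rcases hp.dvd_or_dvd (Dvd.intro _ heq.symm) with ⟨d, hd⟩ | ⟨d, hd⟩
    · exfalso
      have ht0 : t ≠ 0 := fun h => htP (h ▸ P.zero_mem)
      have hu : IsUnit (X.presheaf.germ U x₀ hx₀U t) :=
        IsLocalization.map_units (X.presheaf.stalk x₀) (⟨t, htP⟩ : P.primeCompl)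
      have h2 := ord_eq_zero_of_isUnit h₀ (specializes_refl x₀) (hne hx₀U ht0) hu
      have hd0 : d ≠ 0 := fun h => hne hxU ht0 (by rw [hd, h, mul_zero])
      have h3 : kOf (X.presheaf.germ U x₀ hx₀U t) (hne hx₀U ht0) = π * kOf d hd0 :=
        Units.ext (by
          show algebraMap _ X.functionField _ = algebraMap _ X.functionField p * algebraMap _ _ d
          rw [hgerm, ← hgerm x hxU, hd, map_mul])
      rw [h3, ord_mul_units, hπ] at h2
      have := ord_nonneg_of_reg h₀ (reg_kOf hd0 hx)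
      omega
    · refine ⟨d, ?_⟩
      rw [eq_div_iff π.ne_zero, ← hgerm x hxU b, hd, map_mul, mul_comm]
      rfl
  obtain ⟨S, hS⟩ := IsNoetherian.noetherian P
  let V : X.Opens := ⟨(U : Set X) ∩ ({z | Reg (π : X.functionField) z} ∩
      ⋂ b ∈ S, {z | Reg (algebraMap Γ(X, U) X.functionField b / (π : X.functionField)) z}),
    U.2.inter ((isOpen_reg _).inter (isOpen_biInter_finset fun b _ => isOpen_reg _))⟩
  refine ⟨V, π, ⟨hxU, ⟨p, rfl⟩, Set.mem_iInter₂.mpr fun b hb =>
    hdiv b (hS ▸ Submodule.subset_span hb)⟩, fun z hz hz1 => ?_⟩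
  obtain ⟨hzU, hzπ, hzS⟩ := hz
  by_cases hzx : z = x₀
  · subst hzx
    rw [hπ, delta, if_pos rfl]
  rw [delta, if_neg hzx]
  have hex : ∃ b ∈ S, b ∉ (hUa.primeIdealOf ⟨z, hzU⟩).asIdeal := by
    by_contra h
    push Not at h
    refine hzx (eq_of_specializes_of_coheight_one h₀ hz1 ?_)
    refine (Groth.Agent.Lib.AssPt.Basic.specializes_iff_primeIdealOf hUa hzU hx₀U).mpr ?_
    show P ≤ _
    rw [← hS, Submodule.span_le]
    exact h
  obtain ⟨b, hbS, hbz⟩ := hex
  have hb0 : b ≠ 0 := fun h => hbz (h ▸ Ideal.zero_mem _)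
  letI := X.presheaf.algebra_section_stalk ⟨z, hzU⟩
  haveI := hUa.isLocalization_stalk ⟨z, hzU⟩
  let β := kOf (X.presheaf.germ U z hzU b) (hne hzU hb0)
  have hβ : Scheme.ord (β : X.functionField) z = 0 :=
    ord_eq_zero_of_isUnit hz1 (specializes_refl z) _
      (IsLocalization.map_units (X.presheaf.stalk z)
        (⟨b, hbz⟩ : (hUa.primeIdealOf ⟨z, hzU⟩).asIdeal.primeCompl))
  have h1 : Reg ((β * π⁻¹ : KUnits X) : X.functionField) z := by
    have := Set.mem_iInter₂.mp hzS b hbS
    rw [Units.val_mul, Units.val_inv_eq_inv_val, ← div_eq_mul_inv]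
    show Reg (algebraMap _ X.functionField (X.presheaf.germ U z hzU b) / _) z
    rw [hgerm]
    exact this
  have h2 := ord_nonneg_of_reg hz1 h1
  rw [ord_mul_units, ord_inv, hβ] at h2
  have := ord_nonneg_of_reg hz1 hzπ
  omega

theorem exists_divisor_of_ufd (hX : Pi1.IsNormalScheme X)
    (hU : ∀ x : X, UniqueFactorizationMonoid (X.presheaf.stalk x)) {x₀ : X}
    (h₀ : Order.coheight x₀ = 1) :
    ∃ D : Divisor X,
      (∀ f : KUnits X, D.1 x₀ = germOf X x₀ f → Scheme.ord (f : X.functionField) x₀ = 1) ∧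
      ∀ x : X, x ≠ x₀ → Order.coheight x = 1 → ∀ f : KUnits X, D.1 x = germOf X x f →
        Scheme.ord (f : X.functionField) x = 0 := by
  classical
  choose V f hxV hf using exists_rep_of_ufd hX hU h₀
  refine ⟨⟨fun x => germOf X x (f x), fun x => ⟨V x, f x, hxV x, fun y hy =>
    germOf_eq_of_forall_ord_eq hX fun z hzy hz1 => ?_⟩⟩, fun g hg => ?_, fun x hx hx1 g hg => ?_⟩
  · rw [hf y z (hzy.mem_open (V y).2 (hxV y)) hz1, hf x z (hzy.mem_open (V x).2 hy) hz1]
  · rw [← ord_eq_of_germ_eq h₀ hg, hf x₀ x₀ (hxV x₀) h₀, delta, if_pos rfl]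
  · rw [← ord_eq_of_germ_eq hx1 hg, hf x x (hxV x) hx1, delta, if_neg hx]

theorem ufd_of_divisors (hX : Pi1.IsNormalScheme X)
    (H : ∀ x₀ : X, Order.coheight x₀ = 1 → ∃ D : Divisor X,
      (∀ f : KUnits X, D.1 x₀ = germOf X x₀ f → Scheme.ord (f : X.functionField) x₀ = 1) ∧
      ∀ x : X, x ≠ x₀ → Order.coheight x = 1 → ∀ f : KUnits X, D.1 x = germOf X x f →
        Scheme.ord (f : X.functionField) x = 0) (x : X) :
    UniqueFactorizationMonoid (X.presheaf.stalk x) := by
  haveI := (hX x).1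
  refine { irreducible_iff_prime := fun {q} => ⟨fun hq => ?_, Prime.irreducible⟩ }
  have hnu : ¬ Reg (((kOf q hq.ne_zero)⁻¹ : KUnits X) : X.functionField) x := fun ⟨v, hv⟩ =>
    hq.not_isUnit (isUnit_iff_exists_inv.mpr ⟨v, algebraMap_stalk_injective x (by
      rw [map_mul, hv, map_one]; exact (kOf q hq.ne_zero).mul_inv)⟩)
  obtain ⟨y, hyx, hd, hy⟩ := exists_depth_one_not_reg _ hnu
  have hy1 := coheight_eq_one_of_depth hX hd
  have hqy : 1 ≤ Scheme.ord (kOf q hq.ne_zero : X.functionField) y := by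
    by_contra h
    exact hy (reg_of_ord_nonneg hX hy1 (by rw [ord_inv]; omega))
  obtain ⟨D, hD1, hD0⟩ := H y hy1
  obtain ⟨V, g, hxV, hg⟩ := D.2 x
  have hordy : Scheme.ord (g : X.functionField) y = 1 := hD1 g (hg y (hyx.mem_open V.2 hxV))
  have hord : ∀ z, z ⤳ x → Order.coheight z = 1 → z ≠ y → Scheme.ord (g : X.functionField) z = 0 :=
    fun z hz hz1 hzy => hD0 z hzy hz1 g (hg z (hz.mem_open V.2 hxV))
  obtain ⟨p, hp⟩ : Reg (g : X.functionField) x := reg_of_forall_ord_nonneg hX fun z hz hz1 => by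
    by_cases hzy : z = y
    · subst hzy; omega
    · rw [hord z hz hz1 hzy]
  have hdvd : ∀ (a : X.presheaf.stalk x) (ha : a ≠ 0),
      1 ≤ Scheme.ord (kOf a ha : X.functionField) y → p ∣ a := by
    intro a ha h
    have h1 : Reg ((kOf a ha * g⁻¹ : KUnits X) : X.functionField) x :=
      reg_of_forall_ord_nonneg hX fun z hz hz1 => by
        rw [ord_mul_units, ord_inv]
        by_cases hzy : z = y
        · subst hzy; omega
        · rw [hord z hz hz1 hzy, neg_zero, add_zero]
          exact ord_nonneg_of_reg hz1 (reg_kOf ha hz)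
    obtain ⟨d, hd⟩ := h1
    refine ⟨d, algebraMap_stalk_injective x ?_⟩
    rw [map_mul, hp, hd, Units.val_mul, mul_left_comm, Units.mul_inv, mul_one]
    rfl
  have hp0 : p ≠ 0 := fun h => g.ne_zero (by rw [← hp, h, map_zero])
  have hgp : g = kOf p hp0 := Units.ext hp.symm
  have hpu : ¬ IsUnit p := fun hu => by
    rw [hgp, ord_eq_zero_of_isUnit hy1 hyx hp0 hu] at hordy
    omega
  obtain ⟨d, hd⟩ := hdvd q hq.ne_zero hqy
  have hprime : Prime p := ⟨hp0, hpu, fun a b hab => by
    by_cases ha : a = 0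
    · exact Or.inl (ha ▸ dvd_zero p)
    by_cases hb : b = 0
    · exact Or.inr (hb ▸ dvd_zero p)
    obtain ⟨e, he⟩ := hab
    have he0 : e ≠ 0 := fun h => mul_ne_zero ha hb (by rw [he, h, mul_zero])
    have h1 : kOf a ha * kOf b hb = g * kOf e he0 := Units.ext (by
      show algebraMap _ X.functionField a * algebraMap _ _ b = (g : X.functionField) * algebraMap _ _ e
      rw [← hp, ← map_mul, ← map_mul, he])
    have h2 := congrArg (fun f : KUnits X => Scheme.ord (f : X.functionField) y) h1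
    simp only [ord_mul_units, hordy] at h2
    have h3 := ord_nonneg_of_reg hy1 (reg_kOf he0 hyx)
    by_cases h4 : 1 ≤ Scheme.ord (kOf a ha : X.functionField) y
    · exact Or.inl (hdvd a ha h4)
    · exact Or.inr (hdvd b hb (by omega))⟩
  have hu : IsUnit d := (hq.isUnit_or_isUnit hd).resolve_left hpu
  exact (Associated.prime ⟨hu.unit, hd.symm⟩ hprime)

end Groth.Agent.Lib.CDivInt
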