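import Groth.Agent.Lib.CDivInt.Normal
import Groth.Agent.Lib.CDivRatio.Basic
import Groth.Agent.Lib.Ideal.Comap
import Groth.Prelude.Def_CInt
import Mathlib.AlgebraicGeometry.Morphisms.Proper

/-!
# Effective Cartier divisors of a normal scheme are determined by their proper pullback
-/

set_option autoImplicit false
universe u
open CategoryTheory AlgebraicGeometry TopologicalSpace IsLocalRing

namespace Groth.Agent.Lib.CDivInt

open Groth.Agent.Lib.AssPt.Basic Groth.Agent.Lib.AssPt.Modules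

theorem surjective_of_ker_eq_bot {S S' : Scheme.{u}} (f : S' ⟶ S) [IsProper f] (h : f.ker = ⊥)
    (s : S) : ∃ s', f s' = s := by
  have h1 := f.support_ker
  rw [h, Scheme.IdealSheafData.support_bot, f.isClosedMap.isClosed_range.closure_eq] at h1
  exact (Set.ext_iff.mp h1 s).mp trivial

theorem exists_mem_inter_of_schematicallyDense {X : Scheme.{u}} {U : X.Opens}
    (hU : CInt.IsSchematicallyDense U) (N : X.Opens) {x : X} (hx : x ∈ N) : ∃ t ∈ N, t ∈ U := by
  by_contra h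
  push Not at h
  have hbot : N ⊓ U = ⊥ := eq_bot_iff.mpr fun t ht => (h t ht.1 ht.2).elim
  haveI : Subsingleton Γ(X, N ⊓ U) := by
    rw [hbot]
    exact CommRingCat.subsingleton_of_isTerminal X.sheaf.isTerminalOfEmpty
  have h01 : (1 : Γ(X, N)) = 0 := hU N (Subsingleton.elim _ _)
  have h2 := congrArg (X.presheaf.germ N x hx) h01
  rw [map_one, map_zero] at h2
  exact one_ne_zero h2

theorem ideal_le_of_comap_eq {S S' : Scheme.{u}} [IsLocallyNoetherian S]
    (hnorm : ∀ x : S, IsDomain (S.presheaf.stalk x) ∧ IsIntegrallyClosed (S.presheaf.stalk x))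
    (f : S' ⟶ S) [IsProper f] (hdom : f.ker = ⊥) (U : S.Opens)
    (hU' : CInt.IsSchematicallyDense (f ⁻¹ᵁ U)) (D E : S.IdealSheafData)
    (hD : ∀ x : S, ∃ U : S.affineOpens, x ∈ (U : S.Opens) ∧
      ∃ g : Γ(S, U), g ∈ nonZeroDivisors Γ(S, U) ∧ D.ideal U = Ideal.span {g})
    (hDU : (D.support : Set S) ⊆ (U : Set S)ᶜ) (h : D.comap f = E.comap f)
    (W : S.affineOpens) {a b : Γ(S, W.1)} (ha : D.ideal W = Ideal.span {a})
    (hb : E.ideal W = Ideal.span {b}) : E.ideal W ≤ D.ideal W := by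
  rw [ha, hb, Ideal.span_singleton_le_iff_mem]
  haveI : IsNoetherianRing Γ(S, W.1) := IsLocallyNoetherian.component_noetherian W
  set J : Ideal Γ(S, W.1) := (Ideal.span {a}).colon {b} with hJ
  have hJr : ∀ r, r ∈ J ↔ r * b ∈ Ideal.span {a} := fun r => by
    rw [hJ, Submodule.mem_colon_singleton, smul_eq_mul]
  suffices hJtop : J = ⊤ by
    have := (hJr 1).mp (hJtop ▸ Submodule.mem_top)
    rwa [one_mul] at this
  by_contra hne
  obtain ⟨M, hM, hJM⟩ := Ideal.exists_le_maximal J hne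
  haveI := hM.isPrime
  obtain ⟨q, hq, -⟩ := Ideal.exists_minimalPrimes_le hJM
  haveI : q.IsPrime := hq.1.1
  obtain ⟨y, hy, rfl⟩ := exists_point_of_prime W.2 q
  haveI := (hnorm y).1
  haveI := (hnorm y).2
  letI := S.presheaf.algebra_section_stalk ⟨y, hy⟩
  haveI := W.2.isLocalization_stalk ⟨y, hy⟩
  set P := (W.2.primeIdealOf ⟨y, hy⟩).asIdeal
  let α : S.presheaf.stalk y := S.presheaf.germ W.1 y hy a
  let β : S.presheaf.stalk y := S.presheaf.germ W.1 y hy b
  have hndvd : ¬ α ∣ β := by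
    intro hd
    have h1 : algebraMap Γ(S, W.1) (S.presheaf.stalk y) b ∈
        (Ideal.span {a}).map (algebraMap Γ(S, W.1) (S.presheaf.stalk y)) := by
      rw [Ideal.map_span, Set.image_singleton]
      exact Ideal.mem_span_singleton.mpr hd
    rw [IsLocalization.algebraMap_mem_map_algebraMap_iff P.primeCompl] at h1
    obtain ⟨r, hr, hrb⟩ := h1
    exact hr (hq.1.2 ((hJr r).mpr hrb))
  have hα0 : α ≠ 0 := by
    intro h0
    obtain ⟨g, hg, eg⟩ := CDivRatio.map_germ_eq_span (I := D) hD (V := W) hy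
    rw [ha, Ideal.map_span, Set.image_singleton] at eg
    have h1 : g ∈ Ideal.span ({α} : Set (S.presheaf.stalk y)) := eg.symm ▸ Ideal.mem_span_singleton_self g
    rw [h0, Ideal.mem_span_singleton, zero_dvd_iff] at h1
    exact nonZeroDivisors.ne_zero hg h1
  have hαu : ¬ IsUnit α := fun hu => hndvd hu.dvd
  have hdepth : LocCoh.depth (S.presheaf.stalk y) (S.presheaf.stalk y) = 1 := by
    have key : ∀ (b' a' : S.presheaf.stalk y), b' ≠ 0 → b' ∈ maximalIdeal _ →
        ((Ideal.span {b'}).colon {a'}).radical = maximalIdeal _ →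
        LocCoh.depth (S.presheaf.stalk y) (S.presheaf.stalk y) = 1 :=
      fun b' a' h1 h2 h3 => exists_depth_one_not_reg.depth_eq_one_of_radical_colon
        (fun u v huv => mul_left_cancel₀ h1 huv) h2 h3
    refine key α β hα0 hαu (le_antisymm ?_ ?_)
    · rw [(maximalIdeal.isMaximal (S.presheaf.stalk y)).isPrime.radical_le_iff]
      intro r hr hu
      rw [Submodule.mem_colon_singleton, smul_eq_mul, Ideal.mem_span_singleton] at hr
      exact hndvd (hu.dvd_mul_left.mp hr)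
    · rw [← (radical_map_eq_maximalIdeal_iff (S := S.presheaf.stalk y) P J).mpr hq]
      refine Ideal.radical_mono (Ideal.map_le_iff_le_comap.mpr fun r hr => ?_)
      obtain ⟨c, hc⟩ := Ideal.mem_span_singleton.mp ((hJr r).mp hr)
      rw [Ideal.mem_comap, Submodule.mem_colon_singleton, smul_eq_mul, Ideal.mem_span_singleton]
      refine ⟨algebraMap _ _ c, ?_⟩
      show algebraMap Γ(S, W.1) (S.presheaf.stalk y) r * algebraMap Γ(S, W.1) _ b =
        algebraMap Γ(S, W.1) _ a * _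
      rw [← map_mul, ← map_mul, hc]
  haveI := isDiscreteValuationRing_of_depth_eq_one hdepth
  obtain ⟨c, hc⟩ := (ValuationRing.dvd_total β α).resolve_right hndvd
  have hcu : ¬ IsUnit c := fun hu => hndvd ⟨↑hu.unit⁻¹, by rw [hc, mul_assoc, IsUnit.mul_val_inv, mul_one]⟩
  obtain ⟨s, hs⟩ := surjective_of_ker_eq_bot f hdom y
  subst hs
  obtain ⟨V, hV, hsV, hVle⟩ := exists_isAffineOpen_mem_and_subset (show s ∈ f ⁻¹ᵁ W.1 from hy)
  have e : V ≤ f ⁻¹ᵁ W.1 := fun t ht => hVle ht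
  let φ := (f.stalkMap s).hom
  have hgerm : ∀ r, S'.presheaf.germ V s hsV (f.appLE W.1 V e r) =
      φ (S.presheaf.germ W.1 (f s) hy r) := fun r => by
    show _ = f.stalkMap s _
    rw [Scheme.Hom.germ_stalkMap_apply]
    show S'.presheaf.germ V s hsV (S'.presheaf.map _ _) = _
    rw [TopCat.Presheaf.germ_res_apply]
    rfl
  have hspan : Ideal.span {φ α} = Ideal.span {φ β} := by
    have hI := congrArg (fun I : S'.IdealSheafData =>
      (I.ideal ⟨V, hV⟩).map (S'.presheaf.germ V s hsV).hom) h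
    simp only [Groth.Agent.Lib.Ideal.Comap.ideal_comap f _ W ⟨V, hV⟩ e, ha, hb, Ideal.map_span,
      Set.image_singleton] at hI
    rwa [hgerm, hgerm] at hI
  obtain ⟨d, hd⟩ := Ideal.mem_span_singleton'.mp (hspan ▸ Ideal.mem_span_singleton_self (φ β))
  have hφα : φ α = 0 := by
    have h1 : φ α * (1 - d * φ c) = 0 := by
      have h2 : φ α = φ β * φ c := by rw [← map_mul, ← hc]
      linear_combination h2 - φ c * hd
    have h2 : IsUnit (1 - d * φ c) := by
      refine isUnit_one_sub_self_of_mem_nonunits _ fun hu => hcu ?_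
      exact (isUnit_map_iff φ c).mp (isUnit_of_mul_isUnit_right hu)
    exact h2.mul_left_eq_zero.mp h1
  rw [← hgerm, ← map_zero (S'.presheaf.germ V s hsV).hom] at hφα
  obtain ⟨N, hsN, i₁, i₂, hres⟩ := S'.presheaf.germ_eq s hsV hsV _ _ hφα
  obtain ⟨t, htN, htU⟩ := exists_mem_inter_of_schematicallyDense hU' N hsN
  have htV : t ∈ V := i₁.le htN
  have hu : IsUnit (S.presheaf.germ W.1 (f t) (e htV) a) := by
    by_contra hnu
    refine hDU ((D.mem_support_iff_of_mem (U := W) (e htV)).mpr ?_) htU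
    rw [ha, Scheme.zeroLocus_span, Scheme.mem_zeroLocus_iff]
    intro g hg
    rw [Set.mem_singleton_iff.mp hg, Scheme.mem_basicOpen (X := S) (x := f t) (hx := e htV)]
    exact hnu
  have h0 : S'.presheaf.germ V t htV (f.appLE W.1 V e a) = 0 := by
    rw [← TopCat.Presheaf.germ_res_apply S'.presheaf i₁ t htN, hres, map_zero, map_zero]
  have h1 : S'.presheaf.germ V t htV (f.appLE W.1 V e a) =
      (f.stalkMap t) (S.presheaf.germ W.1 (f t) (e htV) a) := by
    rw [Scheme.Hom.germ_stalkMap_apply]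
    show S'.presheaf.germ V t htV (S'.presheaf.map _ _) = _
    rw [TopCat.Presheaf.germ_res_apply]
    rfl
  rw [h1] at h0
  exact (hu.map (f.stalkMap t).hom).ne_zero h0

theorem eq_of_comap_eq {S S' : Scheme.{u}} [IsLocallyNoetherian S]
    (hnorm : ∀ x : S, IsDomain (S.presheaf.stalk x) ∧ IsIntegrallyClosed (S.presheaf.stalk x))
    (f : S' ⟶ S) [IsProper f] (hdom : f.ker = ⊥) (U : S.Opens)
    (hU' : CInt.IsSchematicallyDense (f ⁻¹ᵁ U)) (D E : S.IdealSheafData)
    (hD : ∀ x : S, ∃ U : S.affineOpens, x ∈ (U : S.Opens) ∧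
      ∃ g : Γ(S, U), g ∈ nonZeroDivisors Γ(S, U) ∧ D.ideal U = Ideal.span {g})
    (hE : ∀ x : S, ∃ U : S.affineOpens, x ∈ (U : S.Opens) ∧
      ∃ g : Γ(S, U), g ∈ nonZeroDivisors Γ(S, U) ∧ E.ideal U = Ideal.span {g})
    (hDU : (D.support : Set S) ⊆ (U : Set S)ᶜ) (hEU : (E.support : Set S) ⊆ (U : Set S)ᶜ)
    (h : D.comap f = E.comap f) : D = E := by
  have key : ∀ x : S, ∃ W : S.affineOpens, x ∈ W.1 ∧ D.ideal W = E.ideal W := by
    intro x
    obtain ⟨U₁, hx₁, g₁, -, e₁⟩ := hD x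
    obtain ⟨U₂, hx₂, g₂, -, e₂⟩ := hE x
    obtain ⟨W, hW, hxW, hle⟩ := exists_isAffineOpen_mem_and_subset
      (show x ∈ U₁.1 ⊓ U₂.1 from ⟨hx₁, hx₂⟩)
    have h1 : (⟨W, hW⟩ : S.affineOpens) ≤ U₁ := fun y hy => (hle hy).1
    have h2 : (⟨W, hW⟩ : S.affineOpens) ≤ U₂ := fun y hy => (hle hy).2
    have ea : D.ideal ⟨W, hW⟩ = Ideal.span {(S.presheaf.map (homOfLE h1).op) g₁} := by
      rw [← D.map_ideal h1, e₁, Ideal.map_span, Set.image_singleton]
    have eb : E.ideal ⟨W, hW⟩ = Ideal.span {(S.presheaf.map (homOfLE h2).op) g₂} := by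
      rw [← E.map_ideal h2, e₂, Ideal.map_span, Set.image_singleton]
    exact ⟨⟨W, hW⟩, hxW, le_antisymm (ideal_le_of_comap_eq hnorm f hdom U hU' E D hE hEU h.symm _ eb ea)
      (ideal_le_of_comap_eq hnorm f hdom U hU' D E hD hDU h _ ea eb)⟩
  choose W hxW hW using key
  exact Scheme.IdealSheafData.ext_of_iSup_eq_top W
    (eq_top_iff.mpr fun x _ => Opens.mem_iSup.mpr ⟨x, hxW x⟩) hW

end Groth.Agent.Lib.CDivInt
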