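import Groth.Agent.Lib.AssPt.Basic
import Mathlib.AlgebraicGeometry.Noetherian
import Groth.Agent.Lib.Ideal.Prime
import Mathlib.RingTheory.UniqueFactorizationDomain.Kaplansky
import Mathlib.RingTheory.Ideal.KrullsHeightTheorem
import Mathlib.RingTheory.Nakayama
import Mathlib.RingTheory.HopkinsLevitzki

/-!
# Regularly immersed codimension one subschemes and local factoriality
-/

set_option autoImplicit false
universe u
open CategoryTheory AlgebraicGeometry TopologicalSpace IsLocalRing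

namespace Groth.Agent.Lib.CDivInt.Factorial

open Groth.Agent.Lib.AssPt.Basic

section Algebra

variable {R : Type u} [CommRing R] [IsNoetherianRing R] [IsLocalRing R]

theorem exists_height_one (h : ¬ Ring.KrullDimLE 0 R) :
    ∃ P : Ideal R, ∃ _ : P.IsPrime, P.height = 1 := by
  have hfin := minimalPrimes.finite_of_isNoetherianRing R
  obtain ⟨a, ham, ha⟩ : ∃ a ∈ maximalIdeal R, ∀ q ∈ minimalPrimes R, a ∉ q := by
    by_contra hc
    push Not at hc
    obtain ⟨q, hq, hle⟩ := (Ideal.subset_union_prime_finite hfin ⊥ ⊥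
      (fun i hi _ _ => hi.1.1) (I := maximalIdeal R) (f := fun q => q)).mp
      (fun a ha => by obtain ⟨q, hq, haq⟩ := hc a ha; exact Set.mem_biUnion hq haq)
    haveI := hq.1.1
    refine h ((Ring.krullDimLE_zero_iff).mpr fun I hI => ?_)
    haveI := hI
    have hIm : I = maximalIdeal R := by
      have hqm : q = maximalIdeal R := le_antisymm (le_maximalIdeal hq.1.1.ne_top) hle
      exact le_antisymm (le_maximalIdeal hI.ne_top)
        (hqm ▸ hq.2 ⟨hI, bot_le⟩ (hqm ▸ le_maximalIdeal hI.ne_top))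
    rw [hIm]; infer_instance
  obtain ⟨P, hP, -⟩ := Ideal.exists_minimalPrimes_le
    (show Ideal.span {a} ≤ maximalIdeal R from (Ideal.span_singleton_le_iff_mem _).mpr ham)
  haveI := hP.1.1
  refine ⟨P, inferInstance, le_antisymm
    (Ideal.height_le_one_of_isPrincipal_of_mem_minimalPrimes _ P hP) ?_⟩
  rw [Order.one_le_iff_ne_zero, Ne, Ideal.height_eq_zero_iff]
  exact fun hPm => ha P hPm (hP.1.2 (Ideal.mem_span_singleton_self a))

theorem isDomain_of_principal (h : ¬ Ring.KrullDimLE 0 R)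
    (H : ∀ P : Ideal R, P.IsPrime → P.height = 1 → ∃ t ∈ nonZeroDivisors R, P = Ideal.span {t}) :
    IsDomain R := by
  obtain ⟨P, hP, hP1⟩ := exists_height_one h
  obtain ⟨t, -, ht⟩ := H P hP hP1
  obtain ⟨q, hq, hqP⟩ := Ideal.exists_minimalPrimes_le (show (⊥ : Ideal R) ≤ P from bot_le)
  haveI := hq.1.1
  have htq : t ∉ q := fun htq => by
    have : P = q := le_antisymm (by rw [ht, Ideal.span_singleton_le_iff_mem]; exact htq) hqP
    have h0 := Ideal.height_eq_zero_iff.mpr hq
    rw [← this, hP1] at h0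
    exact one_ne_zero h0
  have htm : t ∈ maximalIdeal R := le_maximalIdeal hP.ne_top (ht ▸ Ideal.mem_span_singleton_self t)
  have hle : q ≤ maximalIdeal R • q := by
    intro x hx
    have hxP : x ∈ P := hqP hx
    rw [ht] at hxP
    obtain ⟨y, rfl⟩ := Ideal.mem_span_singleton'.mp hxP
    rw [mul_comm, ← smul_eq_mul]
    exact Submodule.smul_mem_smul htm ((hq.1.1.mem_or_mem hx).resolve_right htq)
  have hq0 : q = ⊥ := Submodule.eq_bot_of_le_smul_of_le_jacobson_bot (maximalIdeal R) q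
    (IsNoetherian.noetherian q) hle (maximalIdeal_le_jacobson _)
  haveI : NoZeroDivisors R := ⟨fun {a b} hab => by
    have := hq.1.1.mem_or_mem (show a * b ∈ q by rw [hab]; exact q.zero_mem)
    simpa [hq0] using this⟩
  exact NoZeroDivisors.to_isDomain R

theorem ufd_of_principal [IsDomain R]
    (H : ∀ P : Ideal R, P.IsPrime → P.height = 1 → ∃ t ∈ nonZeroDivisors R, P = Ideal.span {t}) :
    UniqueFactorizationMonoid R := by
  refine UniqueFactorizationMonoid.iff_exists_prime_mem_of_isPrime.mpr fun I hI hIp => ?_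
  obtain ⟨a, haI, ha0⟩ := Submodule.exists_mem_ne_zero_of_ne_bot hI
  obtain ⟨P, hP, hPI⟩ := Ideal.exists_minimalPrimes_le
    (show Ideal.span {a} ≤ I from (Ideal.span_singleton_le_iff_mem _).mpr haI)
  haveI := hP.1.1
  have hPne : P ≠ ⊥ := fun e => ha0 (by
    have := hP.1.2 (Ideal.mem_span_singleton_self a)
    rwa [e, Ideal.mem_bot] at this)
  have hP1 : P.height = 1 := le_antisymm
    (Ideal.height_le_one_of_isPrincipal_of_mem_minimalPrimes _ P hP)
    (Order.one_le_iff_ne_zero.mpr fun h0 => hPne (Ideal.height_eq_zero_iff_eq_bot.mp h0))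
  obtain ⟨t, ht, htP⟩ := H P inferInstance hP1
  refine ⟨t, hPI (htP ▸ Ideal.mem_span_singleton_self t), ?_⟩
  rw [← Ideal.span_singleton_prime (nonZeroDivisors.ne_zero ht), ← htP]
  infer_instance

theorem principal_of_ufd [IsDomain R] [UniqueFactorizationMonoid R] (P : Ideal R) [P.IsPrime]
    (hP : P.height = 1) : ∃ t ∈ nonZeroDivisors R, P = Ideal.span {t} := by
  have hne : P ≠ ⊥ := fun e => by
    rw [Ideal.height_eq_zero_iff_eq_bot.mpr e] at hP
    exact zero_ne_one hP
  obtain ⟨π, hπP, hπ⟩ := (inferInstance : P.IsPrime).exists_mem_prime_of_ne_bot hne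
  haveI : (Ideal.span {π}).IsPrime := (Ideal.span_singleton_prime hπ.ne_zero).mpr hπ
  refine ⟨π, mem_nonZeroDivisors_of_ne_zero hπ.ne_zero, ?_⟩
  by_contra hPne
  have hlt : Ideal.span {π} < P :=
    lt_of_le_of_ne ((Ideal.span_singleton_le_iff_mem _).mpr hπP) (Ne.symm hPne)
  have := Ideal.height_add_one_le_of_lt_of_isPrime hlt
  rw [hP] at this
  have h1 : 1 ≤ (Ideal.span {π}).height := Order.one_le_iff_ne_zero.mpr fun e =>
    (Ideal.span_singleton_eq_bot.not.mpr hπ.ne_zero) (Ideal.height_eq_zero_iff_eq_bot.mp e)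
  exact absurd ((add_le_add h1 le_rfl).trans this) (by norm_num)

end Algebra

variable {X : Scheme.{u}} [IsLocallyNoetherian X]

/-- The prime of the local ring at `x` attached to a generization. -/
noncomputable def primeOf {ζ x : X} (h : ζ ⤳ x) : Ideal (X.presheaf.stalk x) :=
  (maximalIdeal (X.presheaf.stalk ζ)).comap (X.presheaf.stalkSpecializes h).hom

instance {ζ x : X} (h : ζ ⤳ x) : (primeOf h).IsPrime := Ideal.IsPrime.comap _

theorem primeOf_comap {U : X.Opens} (hU : IsAffineOpen U) {ζ x : X} (h : ζ ⤳ x) (hζ : ζ ∈ U)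
    (hx : x ∈ U) :
    (primeOf h).comap (X.presheaf.germ U x hx).hom = (hU.primeIdealOf ⟨ζ, hζ⟩).asIdeal := by
  letI := X.presheaf.algebra_section_stalk ⟨ζ, hζ⟩
  haveI := hU.isLocalization_stalk ⟨ζ, hζ⟩
  rw [primeOf, Ideal.comap_comap, ← CommRingCat.hom_comp]
  erw [TopCat.Presheaf.germ_stalkSpecializes]
  exact IsLocalization.AtPrime.under_maximalIdeal (X.presheaf.stalk ζ) _

theorem height_primeOf {ζ x : X} (h : ζ ⤳ x) :
    ((primeOf h).height : WithBot ℕ∞) = ringKrullDim (X.presheaf.stalk ζ) := by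
  obtain ⟨U, hU, hxU, -⟩ := exists_isAffineOpen_mem_and_subset (x := x) (U := (⊤ : X.Opens)) trivial
  have hζ := h.mem_open U.2 hxU
  letI := X.presheaf.algebra_section_stalk ⟨x, hxU⟩
  haveI := hU.isLocalization_stalk ⟨x, hxU⟩
  rw [Groth.Agent.Lib.Ideal.Prime.ringKrullDim_stalk_eq_height hU hζ, ← primeOf_comap hU h hζ hxU]
  have h2 := IsLocalization.height_under (hU.primeIdealOf ⟨x, hxU⟩).asIdeal.primeCompl (primeOf h)
  exact_mod_cast h2.symm

theorem exists_primeOf_eq (x : X) (P : Ideal (X.presheaf.stalk x)) [P.IsPrime] :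
    ∃ (ζ : X) (h : ζ ⤳ x), primeOf h = P := by
  obtain ⟨U, hU, hxU, -⟩ := exists_isAffineOpen_mem_and_subset (x := x) (U := (⊤ : X.Opens)) trivial
  letI := X.presheaf.algebra_section_stalk ⟨x, hxU⟩
  haveI := hU.isLocalization_stalk ⟨x, hxU⟩
  haveI : (P.comap (X.presheaf.germ U x hxU).hom).IsPrime := Ideal.IsPrime.comap _
  obtain ⟨ζ, hζ, hq⟩ := exists_point_of_prime hU (P.comap (X.presheaf.germ U x hxU).hom)
  have h : ζ ⤳ x := (specializes_iff_primeIdealOf hU hxU hζ).mpr (by
    rw [hq]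
    intro a ha
    by_contra hax
    exact ‹P.IsPrime›.ne_top (Ideal.eq_top_of_isUnit_mem _ ha
      (IsLocalization.map_units (X.presheaf.stalk x)
        (⟨a, hax⟩ : (hU.primeIdealOf ⟨x, hxU⟩).asIdeal.primeCompl))))
  refine ⟨ζ, h, ?_⟩
  rw [← IsLocalization.map_under (hU.primeIdealOf ⟨x, hxU⟩).asIdeal.primeCompl (X.presheaf.stalk x) P,
    ← IsLocalization.map_under (hU.primeIdealOf ⟨x, hxU⟩).asIdeal.primeCompl (X.presheaf.stalk x)
      (primeOf h)]
  congr 1
  exact (primeOf_comap hU h hζ hxU).trans hq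

theorem exists_specializes_ne {x : X} (hmax : ∀ y : X, y ⤳ x → y = x) (hx : ¬ IsOpen ({x} : Set X)) :
    ∃ x' : X, x ⤳ x' ∧ x' ≠ x := by
  obtain ⟨U, hU, hxU, -⟩ := exists_isAffineOpen_mem_and_subset (x := x) (U := (⊤ : X.Opens)) trivial
  haveI : IsNoetherianRing Γ(X, U) := IsLocallyNoetherian.component_noetherian ⟨U, hU⟩
  by_contra hc
  push Not at hc
  apply hx
  let T : Set X := {y | ∃ hy : y ∈ U, y ≠ x ∧ (hU.primeIdealOf ⟨y, hy⟩).asIdeal ∈ minimalPrimes Γ(X, U)}
  have hT : T.Finite := by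
    refine ((minimalPrimes.finite_of_isNoetherianRing Γ(X, U)).biUnion
      fun q _ => (Set.Subsingleton.finite (s := {y : X | ∃ hy : y ∈ U,
        (hU.primeIdealOf ⟨y, hy⟩).asIdeal = q}) ?_)).subset ?_
    · rintro a ⟨ha, ea⟩ b ⟨hb, eb⟩
      have e := congrArg hU.fromSpec (PrimeSpectrum.ext (ea.trans eb.symm))
      rwa [hU.fromSpec_primeIdealOf, hU.fromSpec_primeIdealOf] at e
    · rintro y ⟨hy, -, hq⟩
      exact Set.mem_biUnion hq ⟨hy, rfl⟩
  have hC : IsClosed (⋃ y ∈ T, closure ({y} : Set X)) := hT.isClosed_biUnion fun y _ => isClosed_closure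
  convert U.2.sdiff hC
  ext w
  simp only [Set.mem_singleton_iff]
  constructor
  · rintro rfl
    refine ⟨hxU, fun h => ?_⟩
    obtain ⟨y, ⟨hyU, hne, -⟩, hy⟩ := Set.mem_iUnion₂.mp h
    exact hne (hmax y (specializes_iff_mem_closure.mpr hy))
  · rintro ⟨hwU, hw⟩
    obtain ⟨q, hq, hqw⟩ := Ideal.exists_minimalPrimes_le
      (show (⊥ : Ideal Γ(X, U)) ≤ (hU.primeIdealOf ⟨w, hwU⟩).asIdeal from bot_le)
    haveI := hq.1.1
    obtain ⟨y, hy, rfl⟩ := exists_point_of_prime hU q
    have hyw : y ⤳ w := (specializes_iff_primeIdealOf hU hwU hy).mpr hqw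
    by_cases hyx : y = x
    · subst hyx; exact hc w hyw
    · exact absurd (Set.mem_biUnion (show y ∈ T from ⟨hy, hyx, hq⟩) (specializes_iff_mem_closure.mp hyw)) hw

theorem isReduced_of_specializes {x x' : X} (h : x ⤳ x') [IsReduced (X.presheaf.stalk x')] :
    IsReduced (X.presheaf.stalk x) := by
  obtain ⟨U, hU, hxU', -⟩ := exists_isAffineOpen_mem_and_subset (x := x') (U := (⊤ : X.Opens)) trivial
  have hxU : x ∈ U := h.mem_open U.2 hxU'
  letI := X.presheaf.algebra_section_stalk ⟨x, hxU⟩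
  haveI := hU.isLocalization_stalk ⟨x, hxU⟩
  have hle := (specializes_iff_primeIdealOf hU hxU' hxU).mp h
  refine ⟨fun z ⟨n, hz⟩ => ?_⟩
  obtain ⟨c, s, rfl⟩ := IsLocalization.exists_mk'_eq (hU.primeIdealOf ⟨x, hxU⟩).asIdeal.primeCompl z
  rw [← IsLocalization.mk'_pow, IsLocalization.mk'_eq_zero_iff] at hz
  obtain ⟨t, ht⟩ := hz
  rw [IsLocalization.mk'_eq_zero_iff]
  letI := X.presheaf.algebra_section_stalk ⟨x', hxU'⟩
  haveI := hU.isLocalization_stalk ⟨x', hxU'⟩
  have h0 : algebraMap Γ(X, U) (X.presheaf.stalk x') ((t : Γ(X, U)) * c) = 0 := by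
    refine IsNilpotent.eq_zero ⟨n + 1, ?_⟩
    rw [← map_pow, mul_pow, pow_succ, pow_succ,
      show (t : Γ(X, U)) ^ n * t * (c ^ n * c) = t ^ n * c * (t * c ^ n) by ring, ht, mul_zero, map_zero]
  obtain ⟨r, hr⟩ := (IsLocalization.map_eq_zero_iff (hU.primeIdealOf ⟨x', hxU'⟩).asIdeal.primeCompl _ _).mp h0
  exact ⟨⟨r, fun hr' => r.2 (hle hr')⟩ * t, by
    show (r : Γ(X, U)) * t * c = 0
    rw [mul_assoc]; exact hr⟩

theorem factorial_iff (hred : ∀ x : ↥X, IsOpen ({x} : Set ↥X) → IsReduced ↑(X.presheaf.stalk x)) :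
    (∀ ζ : ↥X, ringKrullDim ↑(X.presheaf.stalk ζ) = 1 → ∀ (x : ↥X) (h : ζ ⤳ x),
        ∃ t : ↑(X.presheaf.stalk x), t ∈ nonZeroDivisors ↑(X.presheaf.stalk x) ∧
          (IsLocalRing.maximalIdeal ↑(X.presheaf.stalk ζ)).comap (X.presheaf.stalkSpecializes h).hom =
            Ideal.span {t}) ↔
      ∀ x : ↥X, ∃ _ : IsDomain ↑(X.presheaf.stalk x), UniqueFactorizationMonoid ↑(X.presheaf.stalk x) := by
  constructor
  · intro H
    have H' : ∀ (x : X) (P : Ideal (X.presheaf.stalk x)), P.IsPrime → P.height = 1 →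
        ∃ t ∈ nonZeroDivisors (X.presheaf.stalk x), P = Ideal.span {t} := by
      intro x P hP hP1
      obtain ⟨ζ, h, rfl⟩ := exists_primeOf_eq x P
      exact H ζ (by rw [← height_primeOf h, hP1]; rfl) x h
    have pos : ∀ x : X, ¬ Ring.KrullDimLE 0 (X.presheaf.stalk x) →
        ∃ _ : IsDomain ↑(X.presheaf.stalk x), UniqueFactorizationMonoid ↑(X.presheaf.stalk x) :=
      fun x hx => by
        haveI := isDomain_of_principal hx (H' x)
        exact ⟨inferInstance, ufd_of_principal (H' x)⟩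
    intro x
    by_cases hx : Ring.KrullDimLE 0 (X.presheaf.stalk x)
    swap
    · exact pos x hx
    have hmax : ∀ y : X, y ⤳ x → y = x := fun y hy => by
      have he : primeOf hy = primeOf (specializes_refl x) :=
        (eq_maximalIdeal (Ideal.IsPrime.isMaximal' inferInstance)).trans
          (eq_maximalIdeal (Ideal.IsPrime.isMaximal' inferInstance)).symm
      obtain ⟨U, hU, hxU, -⟩ := exists_isAffineOpen_mem_and_subset (x := x) (U := (⊤ : X.Opens)) trivial
      have e := congrArg (Ideal.comap (X.presheaf.germ U x hxU).hom) he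
      rw [primeOf_comap hU hy (hy.mem_open U.2 hxU) hxU, primeOf_comap hU _ hxU hxU] at e
      have e' := congrArg hU.fromSpec (PrimeSpectrum.ext e)
      rwa [hU.fromSpec_primeIdealOf, hU.fromSpec_primeIdealOf] at e'
    haveI : IsReduced (X.presheaf.stalk x) := by
      by_cases ho : IsOpen ({x} : Set X)
      · exact hred x ho
      obtain ⟨x', hxx', hne⟩ := exists_specializes_ne hmax ho
      by_cases hx' : Ring.KrullDimLE 0 (X.presheaf.stalk x')
      · exfalso
        have he : primeOf hxx' = primeOf (specializes_refl x') :=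
          (eq_maximalIdeal (Ideal.IsPrime.isMaximal' inferInstance)).trans
            (eq_maximalIdeal (Ideal.IsPrime.isMaximal' inferInstance)).symm
        obtain ⟨U, hU, hxU, -⟩ := exists_isAffineOpen_mem_and_subset (x := x') (U := (⊤ : X.Opens)) trivial
        have e := congrArg (Ideal.comap (X.presheaf.germ U x' hxU).hom) he
        rw [primeOf_comap hU hxx' (hxx'.mem_open U.2 hxU) hxU, primeOf_comap hU _ hxU hxU] at e
        have e' := congrArg hU.fromSpec (PrimeSpectrum.ext e)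
        rw [hU.fromSpec_primeIdealOf, hU.fromSpec_primeIdealOf] at e'
        exact hne e'.symm
      obtain ⟨hd, -⟩ := pos x' hx'
      haveI := hd
      exact isReduced_of_specializes hxx'
    haveI : IsArtinianRing (X.presheaf.stalk x) := isArtinianRing_iff_krullDimLE_zero.mpr hx
    have hf := IsArtinianRing.isField_of_isReduced_of_isLocalRing (X.presheaf.stalk x)
    letI := hf.toField
    exact ⟨inferInstance, inferInstance⟩
  · intro H ζ hζ x h
    obtain ⟨hd, hu⟩ := H x
    haveI := hd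
    haveI := hu
    have hh := height_primeOf h
    rw [hζ] at hh
    obtain ⟨t, ht, he⟩ := principal_of_ufd (primeOf h) (WithBot.coe_eq_coe.mp hh)
    exact ⟨t, ht, he⟩

end Groth.Agent.Lib.CDivInt.Factorial
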