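import Groth.Agent.Lib.CDivInt.Parafactorial
import Groth.Agent.Lib.CDivInt.Factorial

/-!
# Principal hypersurfaces, local factoriality and trivial Picard group
-/

set_option autoImplicit false
universe u
open CategoryTheory AlgebraicGeometry TopologicalSpace Opposite IsLocalRing

noncomputable section

namespace Groth.Agent.Lib.CDivInt.Principal

open Groth.Agent.Lib Groth.Agent.Lib.CDivInt Groth.Agent.Lib.RefHull.DivSheaf

variable {X : Scheme.{u}} [IsIntegral X] [IsLocallyNoetherian X]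

variable (X) in
/-- Every prime cycle of codimension one is principal. -/
def PrincCycles : Prop :=
  ∀ x₀ : ↥X, Order.coheight x₀ = 1 → ∃ f : ↑X.functionField, f ≠ 0 ∧
    Scheme.ord f x₀ = 1 ∧ ∀ x : ↥X, x ≠ x₀ → Order.coheight x = 1 → Scheme.ord f x = 0

variable (X) in
/-- Every prime cycle is cut out by a global function. -/
def PrincHyp : Prop :=
  ∀ ζ : ↥X, Order.coheight ζ = 1 → ∃ g : Γ(X, ⊤),
    (∀ (x : ↥X) (h : ζ ⤳ x),
      (IsLocalRing.maximalIdeal ↑(X.presheaf.stalk ζ)).comap (X.presheaf.stalkSpecializes h).hom =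
        Ideal.span {X.presheaf.germ ⊤ x trivial g}) ∧
    ∀ x : ↥X, ¬ ζ ⤳ x → IsUnit (X.presheaf.germ ⊤ x trivial g)

theorem ord_eq_delta {f : X.functionField} {x₀ : X} (h1 : Scheme.ord f x₀ = 1)
    (h0 : ∀ x : X, x ≠ x₀ → Order.coheight x = 1 → Scheme.ord f x = 0) {z : X}
    (hz : Order.coheight z = 1) : Scheme.ord f z = delta x₀ z := by
  rw [delta]
  split_ifs with h
  · rw [h, h1]
  · exact h0 z h hz

theorem ufd_of_princCycles (hX : Pi1.IsNormalScheme X) (h : PrincCycles X) (x : X) :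
    UniqueFactorizationMonoid (X.presheaf.stalk x) := by
  refine ufd_of_divisors hX (fun x₀ h₀ => ?_) x
  obtain ⟨f, hf, h1, h0⟩ := h x₀ h₀
  refine ⟨CDiv.div (Units.mk0 f hf), fun g hg => ?_, fun z hz hz1 g hg => ?_⟩
  · rw [← ord_eq_of_germ_eq h₀ hg]; exact h1
  · rw [← ord_eq_of_germ_eq hz1 hg]; exact h0 z hz hz1

theorem isNormal_of_ufd (h : ∀ x : X, UniqueFactorizationMonoid (X.presheaf.stalk x)) :
    Pi1.IsNormalScheme X := fun x => by
  haveI := h x
  exact ⟨inferInstance, inferInstance⟩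

theorem picTrivial_of_princCycles [CompactSpace X] (hX : Pi1.IsNormalScheme X) (h : PrincCycles X)
    (L : X.Modules) (hL : PicF.IsInvertible L) : Nonempty (L ≅ Coh.structureModule X) := by
  classical
  have hR := Pic.isRef1_of_isInvertible hL
  obtain ⟨v, hv⟩ := RefHull.DivRef.exists_rational_section hR
  obtain ⟨D, hD0, hD⟩ := RefHull.Divisor.exists_cycle hX hR hv
  have hfin : (Function.support D).Finite := by
    have := (Function.locallyFinsupp.locallyFiniteSupport D).finite_inter_support_of_isCompact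
      (isCompact_univ (X := X))
    rwa [Set.univ_inter] at this
  have hmem : ∀ z : hfin.toFinset, Order.coheight z.1 = 1 := fun z =>
    by_contra fun hne => (hfin.mem_toFinset.mp z.2) (hD0 z.1 hne)
  choose f hf h1 h0 using fun z : hfin.toFinset => h z.1 (hmem z)
  refine Pic.iso_structure_of_ord_eq hX hR hv
    (f := ((∏ z : hfin.toFinset, (Units.mk0 (f z) (hf z)) ^ D z.1 : CDiv.KUnits X) : X.functionField))
    (Units.ne_zero _) fun x hx => ?_
  rw [← hD x hx, Pic.ord_prod]
  have hterm : ∀ z : hfin.toFinset, Scheme.ord ((Units.mk0 (f z) (hf z) ^ D z.1 : CDiv.KUnits X) :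
      X.functionField) x = if x = z.1 then D z.1 else 0 := fun z => by
    rw [Pic.ord_zpow, Units.val_mk0, ord_eq_delta (h1 z) (h0 z) hx, delta]
    split_ifs <;> simp
  rw [Finset.sum_congr rfl fun z _ => hterm z,
    Finset.sum_coe_sort hfin.toFinset (fun z => if x = z then D z else 0), Finset.sum_ite_eq]
  split_ifs with hm
  · rfl
  · exact not_not.mp fun hne => hm (hfin.mem_toFinset.mpr hne)

theorem princCycles_of_picTrivial (h : ∀ x : X, UniqueFactorizationMonoid (X.presheaf.stalk x))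
    (hpic : ∀ L : X.Modules, PicF.IsInvertible L → Nonempty (L ≅ Coh.structureModule X)) :
    PrincCycles X := by
  intro x₀ h₀
  have hX := isNormal_of_ufd h
  have hD : IsDiv (delta x₀) := fun U _ => (Set.finite_singleton x₀).subset fun z ⟨_, _, hz⟩ => by
    by_contra hne
    exact hz (if_neg hne)
  obtain ⟨v, hv, hvZ⟩ := RefHull.DivRef.exists_section (hX := hX) hD
  obtain ⟨f, hf, hf'⟩ := Pic.exists_ord_eq_of_iso hX (RefHull.DivRef.isRef1 hX hD) hv
    (hpic _ (Pic.isInvertible_divSh hX (Pic.locPrincipal_of_ufd hX h hD)))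
  refine ⟨f, hf, ?_, fun z hz hz1 => ?_⟩
  · rw [← hf' x₀ h₀, hvZ x₀ h₀, delta, if_pos rfl]
  · rw [← hf' z hz1, hvZ z hz1, delta, if_neg hz]

theorem iso_structure_of_isEmpty {Y : Scheme.{u}} [IsEmpty Y] (L : Y.Modules) :
    Nonempty (L ≅ Coh.structureModule Y) := by
  haveI : IsIso (0 : L ⟶ Coh.structureModule Y) :=
    (Modules.StalkModule.isIso_iff_stalkMapₗ_bijective _).mpr fun x => isEmptyElim x
  exact ⟨asIso (0 : L ⟶ Coh.structureModule Y)⟩

theorem picTrivial_open_of_princCycles [CompactSpace X] (hX : Pi1.IsNormalScheme X) (h : PrincCycles X)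
    (U : X.Opens) (L : (U : Scheme.{u}).Modules) (hL : PicF.IsInvertible L) :
    Nonempty (L ≅ Coh.structureModule (U : Scheme.{u})) := by
  by_cases hne : Nonempty U
  swap
  · haveI : IsEmpty (U : Scheme.{u}) := ⟨fun x => hne ⟨x⟩⟩
    exact iso_structure_of_isEmpty L
  haveI : IsNoetherian X := { }
  haveI : CompactSpace (U : Scheme.{u}) :=
    isCompact_iff_compactSpace.mp (NoetherianSpace.isCompact (U : Set X))
  have hη : U.ι (genericPoint (U : Scheme.{u})) = genericPoint X := genericPoint_eq_of_isOpenImmersion U.ι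
  refine picTrivial_of_princCycles (Parafactorial.isNormal U.ι hη hX) (fun z hz => ?_) L hL
  obtain ⟨f, hf, h1, h0⟩ := h (U.ι z) ((Parafactorial.coheight_eq U.ι hη z).trans hz)
  refine ⟨(Parafactorial.theta U.ι hη).hom f, (map_ne_zero _).mpr hf, ?_, fun w hw hw1 => ?_⟩
  · rw [Parafactorial.ord_theta U.ι hη hX hz, h1]
  · rw [Parafactorial.ord_theta U.ι hη hX hw1]
    exact h0 _ (fun e => hw (U.ι.isOpenEmbedding.injective e))
      ((Parafactorial.coheight_eq U.ι hη w).trans hw1)

theorem princCycles_of_picTrivial_open (hX : Pi1.IsNormalScheme X)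
    (hpic : ∀ (U : X.Opens) (L : (U : Scheme.{u}).Modules),
      PicF.IsInvertible L → Nonempty (L ≅ Coh.structureModule (U : Scheme.{u}))) :
    PrincCycles X := by
  intro x₀ h₀
  have hD : IsDiv (delta x₀) := fun U _ => (Set.finite_singleton x₀).subset fun z ⟨_, _, hz⟩ => by
    by_contra hne
    exact hz (if_neg hne)
  let U : X.Opens := ⟨{x | Parafactorial.PrincipalAt (delta x₀) x}, by
    refine isOpen_iff_forall_mem_open.mpr fun x ⟨f, hf⟩ => ?_
    obtain ⟨V, hxV, hV⟩ := Parafactorial.exists_nhds_of_principalAt hX hD hf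
    exact ⟨(V : Set X), fun y hy => ⟨f, fun z h1 hzy => hV z (hzy.mem_open V.2 hy) h1⟩, V.2, hxV⟩⟩
  have hmem : ∀ z : X, Order.coheight z = 1 → z ∈ U := fun z hz =>
    Parafactorial.principalAt_of_coheight_le_one hX _ hz.le
  haveI : Nonempty U := ⟨⟨x₀, hmem x₀ h₀⟩⟩
  have hη : U.ι (genericPoint (U : Scheme.{u})) = genericPoint X := genericPoint_eq_of_isOpenImmersion U.ι
  have hY := Parafactorial.isNormal U.ι hη hX
  let Z' : ↥(U : Scheme.{u}) → ℤ := fun z => delta x₀ (U.ι z)
  have hrep : Pic.LocPrincipal Z' := by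
    intro p
    obtain ⟨f, hf⟩ := (p.2 : Parafactorial.PrincipalAt (delta x₀) p.1)
    obtain ⟨V, hpV, hV⟩ := Parafactorial.exists_nhds_of_principalAt hX hD hf
    refine ⟨U.ι ⁻¹ᵁ V, Units.map (Parafactorial.theta U.ι hη).hom.toMonoidHom f, hpV, fun z hz hz1 => ?_⟩
    exact (Parafactorial.ord_theta U.ι hη hX hz1 f).trans
      (hV _ hz ((Parafactorial.coheight_eq U.ι hη z).trans hz1))
  have hD' : IsDiv Z' := fun W _ =>
    ((Set.finite_singleton x₀).preimage U.ι.isOpenEmbedding.injective.injOn).subset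
      fun z ⟨_, _, hz⟩ => by
        by_contra hne
        exact hz (if_neg hne)
  obtain ⟨v, hv, hvZ⟩ := RefHull.DivRef.exists_section (hX := hY) hD'
  obtain ⟨g, hg, hg'⟩ := Pic.exists_ord_eq_of_iso hY (RefHull.DivRef.isRef1 hY hD') hv
    (hpic U _ (Pic.isInvertible_divSh hY hrep))
  obtain ⟨f, rfl⟩ := (Parafactorial.theta_bijective U.ι hη).2 g
  have key : ∀ z : X, Order.coheight z = 1 → Scheme.ord f z = delta x₀ z := fun z hz1 => by
    let p : ↥(U : Scheme.{u}) := ⟨z, hmem z hz1⟩
    have hp : Order.coheight p = 1 := (Parafactorial.coheight_eq U.ι hη p).symm.trans hz1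
    show Scheme.ord f (U.ι p) = Z' p
    rw [← Parafactorial.ord_theta U.ι hη hX hp, ← hg' p hp, hvZ p hp]
  refine ⟨f, fun h => hg (by rw [h, map_zero]), ?_, fun z hz hz1 => ?_⟩
  · rw [key x₀ h₀, delta, if_pos rfl]
  · rw [key z hz1, delta, if_neg hz]

theorem princHyp_of_princCycles (hX : Pi1.IsNormalScheme X) (h : PrincCycles X) : PrincHyp X := by
  intro ζ hζ
  obtain ⟨f, hf, h1, h0⟩ := h ζ hζ
  obtain ⟨g, hg⟩ := exists_function (V := ⊤) (trivial : genericPoint X ∈ (⊤ : X.Opens)) f fun x _ =>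
    reg_of_forall_ord_nonneg hX (f := Units.mk0 f hf) fun z _ hz1 => by
      show 0 ≤ Scheme.ord f z
      rw [ord_eq_delta h1 h0 hz1, delta]
      split_ifs <;> omega
  have hgx : ∀ x : X, algebraMap (X.presheaf.stalk x) X.functionField (X.presheaf.germ ⊤ x trivial g) = f :=
    fun x => (RefHull.Generic.algebraMap_germ _ g).trans hg
  refine ⟨g, fun x hx => le_antisymm ?_ ?_, fun x hx => ?_⟩
  · intro a ha
    by_cases ha0 : a = 0
    · rw [ha0]; exact Ideal.zero_mem _
    have hnu : ¬ IsUnit (X.presheaf.stalkSpecializes hx a) := ha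
    have hord : 1 ≤ Scheme.ord (kOf a ha0 : X.functionField) ζ := by
      by_contra hlt
      obtain ⟨b, hb⟩ := reg_of_ord_nonneg hX (f := (kOf a ha0)⁻¹) hζ (by
        rw [ord_inv]; omega)
      refine hnu (isUnit_iff_exists_inv.mpr ⟨b, algebraMap_stalk_injective ζ ?_⟩)
      rw [map_mul, hb, map_one]
      have e : algebraMap (X.presheaf.stalk ζ) X.functionField (X.presheaf.stalkSpecializes hx a) =
          (kOf a ha0 : X.functionField) := by
        show (X.presheaf.stalkSpecializes hx ≫ X.presheaf.stalkSpecializes _) a = _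
        rw [TopCat.Presheaf.stalkSpecializes_comp]
        rfl
      rw [e, Units.mul_inv]
    obtain ⟨c, hc⟩ := reg_of_forall_ord_nonneg hX (x := x) (f := kOf a ha0 * (Units.mk0 f hf)⁻¹)
      fun z hzx hz1 => by
        rw [ord_mul_units, ord_inv]
        show 0 ≤ _ + -Scheme.ord f z
        by_cases hz : z = ζ
        · subst hz; rw [h1]; omega
        · rw [h0 z hz hz1, neg_zero, add_zero]
          exact ord_nonneg_of_reg hz1 (reg_kOf ha0 hzx)
    refine Ideal.mem_span_singleton.mpr ⟨c, algebraMap_stalk_injective x ?_⟩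
    rw [map_mul, hgx x, hc]
    show algebraMap (X.presheaf.stalk x) X.functionField a = f * (_ * f⁻¹)
    rw [mul_left_comm, mul_inv_cancel₀ hf, mul_one]
    rfl
  · rw [Ideal.span_singleton_le_iff_mem]
    intro hu
    erw [TopCat.Presheaf.germ_stalkSpecializes_apply X.presheaf (U := ⊤) (Opens.mem_top x) hx] at hu
    have h2 := ord_eq_zero_of_isUnit hζ (specializes_refl ζ)
      (a := X.presheaf.germ ⊤ ζ trivial g) hu.ne_zero hu
    have e : (kOf (X.presheaf.germ ⊤ ζ trivial g) hu.ne_zero : X.functionField) = f := hgx ζ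
    rw [e, h1] at h2
    exact one_ne_zero h2
  · obtain ⟨b, hb⟩ := reg_of_forall_ord_nonneg hX (x := x) (f := (Units.mk0 f hf)⁻¹) fun z hzx hz1 => by
      rw [ord_inv]
      show 0 ≤ -Scheme.ord f z
      rw [h0 z (fun e => hx (e ▸ hzx)) hz1]
      norm_num
    refine isUnit_iff_exists_inv.mpr ⟨b, algebraMap_stalk_injective x ?_⟩
    rw [map_mul, hgx x, hb, map_one]
    exact (Units.mk0 f hf).mul_inv

theorem normal_princCycles_of_princHyp (h : PrincHyp X) : Pi1.IsNormalScheme X ∧ PrincCycles X := by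
  have hne : ∀ {ζ : X}, Order.coheight ζ = 1 → ∀ {g : Γ(X, ⊤)},
      (∀ x : X, ¬ ζ ⤳ x → IsUnit (X.presheaf.germ ⊤ x trivial g)) →
      X.presheaf.germ ⊤ (genericPoint X) trivial g ≠ 0 := fun {ζ} hζ {g} hg => by
    refine (hg (genericPoint X) fun hsp => ?_).ne_zero
    have e := hsp.antisymm ((genericPoint_spec X).specializes trivial)
    exact RefHull.DivRef.coheight_genericPoint_ne_one (e.eq ▸ hζ)
  have hU : ∀ x : X, UniqueFactorizationMonoid (X.presheaf.stalk x) := by
    intro x
    refine Factorial.ufd_of_principal fun P hP hP1 => ?_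
    obtain ⟨ζ, hζx, rfl⟩ := Factorial.exists_primeOf_eq x P
    have hh := Factorial.height_primeOf hζx
    rw [hP1, ringKrullDim_stalk_eq_coheight] at hh
    obtain ⟨g, hg, hu⟩ := h ζ (WithBot.coe_eq_coe.mp hh).symm
    refine ⟨_, mem_nonZeroDivisors_of_ne_zero fun h0 =>
      hne (WithBot.coe_eq_coe.mp hh).symm hu ?_, hg x hζx⟩
    have := congrArg (algebraMap (X.presheaf.stalk x) X.functionField) h0
    rw [map_zero] at this
    exact (RefHull.Generic.algebraMap_germ _ g).symm.trans this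
  have hX := isNormal_of_ufd hU
  refine ⟨hX, fun ζ hζ => ?_⟩
  obtain ⟨g, hg, hu⟩ := h ζ hζ
  refine ⟨X.presheaf.germ ⊤ (genericPoint X) trivial g, hne hζ hu, ?_, fun x hx hx1 => ?_⟩
  · have hgen := hg ζ (specializes_refl ζ)
    rw [TopCat.Presheaf.stalkSpecializes_refl, CommRingCat.hom_id, Ideal.comap_id] at hgen
    haveI := isDVR_of_coheight_eq_one hX hζ
    haveI : Ring.KrullDimLE 1 (X.presheaf.stalk ζ) := krullDimLE_of_coheight_le hζ.le
    have hirr : Irreducible (X.presheaf.germ ⊤ ζ trivial g) :=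
      (IsDiscreteValuationRing.irreducible_iff_uniformizer _).mpr hgen
    have e := RefHull.Generic.algebraMap_germ (X := X) (U := ⊤) (x := ζ) trivial g
    rw [← e, Scheme.ord_eq_iff hζ ((map_ne_zero_iff _ (algebraMap_stalk_injective ζ)).mpr hirr.ne_zero)]
    exact (Ring.ordFrac_irreducible hirr).trans rfl
  · have hnu : ¬ ζ ⤳ x := fun hsp => hx (eq_of_specializes_of_coheight_one hζ hx1 hsp)
    have h2 := ord_eq_zero_of_isUnit hx1 (specializes_refl x) (hu x hnu).ne_zero (hu x hnu)
    have e : (kOf _ (hu x hnu).ne_zero : X.functionField) =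
        X.presheaf.germ ⊤ (genericPoint X) trivial g := RefHull.Generic.algebraMap_germ _ g
    rw [e] at h2
    exact h2

theorem tfae [CompactSpace X] :
    List.TFAE [PrincHyp X, Pi1.IsNormalScheme X ∧ PrincCycles X,
      (∀ x : ↥X, UniqueFactorizationMonoid ↑(X.presheaf.stalk x)) ∧
        ∀ L : X.Modules, PicF.IsInvertible L → Nonempty (L ≅ Coh.structureModule X),
      Pi1.IsNormalScheme X ∧ ∀ (U : X.Opens) (L : (U : Scheme.{u}).Modules),
        PicF.IsInvertible L → Nonempty (L ≅ Coh.structureModule (U : Scheme.{u}))] := by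
  tfae_have 1 → 2 := normal_princCycles_of_princHyp
  tfae_have 2 → 1 := fun h => princHyp_of_princCycles h.1 h.2
  tfae_have 2 → 3 := fun h => ⟨ufd_of_princCycles h.1 h.2, picTrivial_of_princCycles h.1 h.2⟩
  tfae_have 3 → 2 := fun h => ⟨isNormal_of_ufd h.1, princCycles_of_picTrivial h.1 h.2⟩
  tfae_have 2 → 4 := fun h => ⟨h.1, picTrivial_open_of_princCycles h.1 h.2⟩
  tfae_have 4 → 2 := fun h => ⟨h.1, princCycles_of_picTrivial_open h.1 h.2⟩
  tfae_finish

end Groth.Agent.Lib.CDivInt.Principal
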